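import Mathlib
import Cfsg.Agent.Small.Count
import Cfsg.Agent.Perm.ZassPrime
import Cfsg.Agent.Perm.ZassEven

/-!
A simple group of order `(q+1)q(q-1)` with one class of involutions whose centralizer is an
elementary abelian `2`-group of order `q` is `PSL(2, q)`.
-/

set_option autoImplicit false
set_option linter.style.haveILetI false

namespace Cfsg.Agent.Small

open Subgroup MulAction
open scoped MatrixGroups

variable {G : Type*} [Group G] [Finite G]

theorem card_centralizer_of_isConj {a b : G} (h : IsConj a b) :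
    Nat.card (centralizer ({a} : Set G)) = Nat.card (centralizer ({b} : Set G)) := by
  have h3 : Nat.card {z : G // IsConj a z} = Nat.card {z : G // IsConj b z} :=
    Nat.card_congr (Equiv.subtypeEquivRight fun z => ⟨fun h' => h.symm.trans h', h.trans⟩)
  have h4 := card_isConj_mul_card_centralizer a
  have h5 := card_isConj_mul_card_centralizer b
  rw [← h3, ← h4] at h5
  have : 0 < Nat.card {z : G // IsConj a z} := by
    haveI : Nonempty {z : G // IsConj a z} := ⟨⟨a, IsConj.refl a⟩⟩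
    exact Nat.card_pos
  exact (Nat.eq_of_mul_eq_mul_left this h5).symm

theorem psl_of_involution_centralizer [IsSimpleGroup G] {u : G} (hu : orderOf u = 2) {m : ℕ}
    (hm : 2 ≤ m) (hL : Nat.card (centralizer ({u} : Set G)) = 2 ^ m)
    (h2 : ∀ v ∈ centralizer ({u} : Set G), v * v = 1)
    (hconj : ∀ v : G, orderOf v = 2 → IsConj u v)
    (hG : Nat.card G = (2 ^ m + 1) * 2 ^ m * (2 ^ m - 1)) :
    ∃ (F : Type) (_ : Field F) (_ : Fintype F), Nat.card F = 2 ^ m ∧ Nonempty (G ≃* PSL(2, F)) := by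
  classical
  set q := 2 ^ m with hq
  have hq4 : 4 ≤ q := Nat.pow_le_pow_right two_pos hm
  have hq2 : 2 ∣ q := dvd_pow_self 2 (by omega)
  have hcard : ∀ S : Sylow 2 G, Nat.card (S : Subgroup G) = q := fun S =>
    card_sylow_subgroup (k := m) (m := (q + 1) * (q - 1)) (by rw [hG]; ring) (by
      rw [Nat.Prime.dvd_mul Nat.prime_two]; omega) S
  obtain ⟨S₀, hS₀⟩ := (IsPGroup.of_card (p := 2) hL).exists_le_sylow
  have hS₀' : centralizer ({u} : Set G) = S₀ := eq_of_le_of_card_ge hS₀ (by rw [hL, hcard])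
  have hsq : ∀ S : Sylow 2 G, ∀ v ∈ (S : Subgroup G), v * v = 1 := by
    intro S v hv
    obtain ⟨g, rfl⟩ := exists_smul_eq G S₀ S
    obtain ⟨w, hw, rfl⟩ := hv
    have := h2 w (hS₀' ▸ hw)
    change (g * w * g⁻¹) * (g * w * g⁻¹) = 1
    rw [conj_mul, this, mul_one, mul_inv_cancel]
  have hord : ∀ S : Sylow 2 G, ∀ v ∈ (S : Subgroup G), v ≠ 1 → orderOf v = 2 := fun S v hv h1 =>
    orderOf_eq_prime (by rw [sq, hsq S v hv]) h1
  have hC : ∀ S : Sylow 2 G, ∀ v ∈ (S : Subgroup G), v ≠ 1 → centralizer ({v} : Set G) = S := by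
    intro S v hv h1
    refine (eq_of_le_of_card_ge (fun w hw => ?_) ?_).symm
    · rw [mem_centralizer_singleton_iff]
      have h3 := hsq S _ (mul_mem hw hv)
      rw [eq_inv_of_mul_eq_one_left h3, mul_inv_rev, ← eq_inv_of_mul_eq_one_left (hsq S v hv),
        ← eq_inv_of_mul_eq_one_left (hsq S w hw)]
    · rw [← card_centralizer_of_isConj (hconj v (hord S v hv h1)), hL, hcard]
  have hTI : ∀ Q R : Sylow 2 G, Q ≠ R → (Q : Subgroup G) ⊓ R = ⊥ := by
    intro Q R hQR
    rw [eq_bot_iff]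
    rintro v ⟨h1, h3⟩
    by_contra h
    exact hQR (Sylow.ext ((hC Q v h1 h).symm.trans (hC R v h3 h)))
  have hΩ : Nat.card (Sylow 2 G) = q + 1 := by
    have h3 := card_pElements_of_TI S₀ hTI
    have h4 : Nat.card {g : G // g ≠ 1 ∧ ∃ k, g ^ 2 ^ k = 1} = Nat.card {z : G // IsConj u z} := by
      refine Nat.card_congr (Equiv.subtypeEquivRight fun z => ⟨?_, ?_⟩)
      · rintro ⟨h1, k, hk⟩
        obtain ⟨S, hS⟩ := exists_mem_sylow_of_pow hk
        exact hconj z (hord S z hS h1)
      · intro h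
        obtain ⟨c, rfl⟩ := isConj_iff.1 h
        have h5 : orderOf (c * u * c⁻¹) = 2 := ((MulAut.conj c).orderOf_eq u).trans hu
        refine ⟨fun h6 => ?_, 1, by rw [pow_one, ← h5, pow_orderOf_eq_one]⟩
        rw [h6, orderOf_one] at h5
        omega
    have h5 := card_isConj_mul_card_centralizer u
    rw [← h4, h3, hL, hcard, hG] at h5
    have h6 : Nat.card (Sylow 2 G) * (q - 1) = (q + 1) * (q - 1) :=
      Nat.eq_of_mul_eq_mul_right (by omega : 0 < q) (by rw [h5]; ring)
    exact Nat.eq_of_mul_eq_mul_right (by omega) h6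
  have hsemi : ∀ S : Sylow 2 G, ∀ v ∈ (S : Subgroup G), ∀ c, c ≠ S → v • c = c → v = 1 := by
    intro S v hv c hc h
    have h3 : v ∈ (S : Subgroup G) ⊓ normalizer (c : Set G) :=
      ⟨hv, Sylow.smul_eq_iff_mem_normalizer.1 h⟩
    rwa [S.isPGroup'.inf_normalizer_sylow c, hTI S c hc.symm, mem_bot] at h3
  have hfix : ∀ S : Sylow 2 G, ∀ v ∈ (S : Subgroup G), v • S = S := fun S v hv =>
    Sylow.smul_eq_iff_mem_normalizer.2 (le_normalizer hv)
  have htrans : ∀ S c d : Sylow 2 G, c ≠ S → d ≠ S → ∃ v ∈ (S : Subgroup G), v • c = d := by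
    intro S c d hc hd
    let f : ↥(S : Subgroup G) → {d : Sylow 2 G // d ≠ S} := fun v => ⟨v.1 • c, fun h => hc
      ((eq_inv_smul_iff.2 h).trans (hfix S _ (inv_mem v.2)))⟩
    have hf : Function.Injective f := by
      intro v w h
      have h3 : v.1 • c = w.1 • c := congrArg Subtype.val h
      have h4 := hsemi S _ (mul_mem (inv_mem w.2) v.2) c hc (by rw [mul_smul, h3, inv_smul_smul])
      exact Subtype.ext (inv_mul_eq_one.1 h4).symm
    have hb := hf.bijective_of_nat_card_le (by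
      haveI := Fintype.ofFinite (Sylow 2 G)
      rw [hcard, Nat.card_eq_fintype_card, Fintype.card_subtype_compl, Fintype.card_subtype_eq,
        ← Nat.card_eq_fintype_card, hΩ]
      omega)
    obtain ⟨v, hv⟩ := hb.2 ⟨d, hd⟩
    exact ⟨v.1, v.2, congrArg Subtype.val hv⟩
  have htwo := Perm.ZassPSL.two_trans_of_regular (hfix S₀) (htrans S₀)
  haveI : Nontrivial (Sylow 2 G) := Finite.one_lt_card_iff_nontrivial.1 (by omega)
  obtain ⟨b, hb⟩ := exists_ne S₀
  have hu₀ : u ∈ (S₀ : Subgroup G) := hS₀ (mem_centralizer_singleton_iff.2 rfl)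
  have hu1 : u ≠ 1 := by rintro rfl; simp at hu
  have hfaith : FaithfulSMul G (Sylow 2 G) := by
    have := toPermHom_injective_of_ne (G := G) (g := u) (a := b)
      fun h => hu1 (hsemi S₀ u hu₀ b hb h)
    exact ⟨fun h => this (Equiv.ext h)⟩
  have hthree : ∀ (g : G) (x y z : Sylow 2 G), x ≠ y → y ≠ z → x ≠ z → g • x = x → g • y = y →
      g • z = z → g = 1 := by
    intro g x y z hxy hyz hxz hx hy hz
    obtain ⟨s, hs, rfl⟩ := htrans x y z hxy.symm hxz.symm
    have hs1 : s ≠ 1 := by rintro rfl; exact hyz (one_smul _ _).symm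
    have h3 : g * s * g⁻¹ ∈ (x : Subgroup G) :=
      (mem_normalizer_iff.1 (Sylow.smul_eq_iff_mem_normalizer.1 hx) s).1 hs
    have h4 := hsemi x _ (mul_mem (inv_mem hs) h3) y hxy.symm (by
      rw [mul_smul, mul_smul, mul_smul, inv_smul_eq_iff.2 hy.symm, hz, inv_smul_smul])
    have h5 : g ∈ (x : Subgroup G) := by
      rw [← hC x s hs hs1, mem_centralizer_singleton_iff]
      calc g * s = s * (s⁻¹ * (g * s * g⁻¹)) * g := by group
        _ = s * g := by rw [h4, mul_one]
    exact hsemi x g h5 y hxy.symm hy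
  have hst : Nat.card ↥(stabilizer G S₀ ⊓ stabilizer G b) = q - 1 := by
    have h3 := Perm.ZassPSL.card_stabilizer_of_two htwo hb.symm
    have h4 := card_mul_index (stabilizer G S₀)
    rw [index_stabilizer_of_transitive, h3, hΩ, hG, Nat.add_sub_cancel] at h4
    refine Nat.eq_of_mul_eq_mul_right (by positivity : 0 < q * (q + 1)) ?_
    rw [← mul_assoc, h4]; ring
  have hZ := Perm.ZassPSL.isZassenhaus_of_simple hfaith htwo hthree hb.symm (by
    intro h
    rw [h, card_bot] at hst
    omega)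
  obtain ⟨F, _, _, hF, e⟩ := Perm.ZassPSL.psl_of_sharp_odd hZ
    (by rw [hΩ]; exact (even_iff_two_dvd.2 hq2).add_one) hb.symm (by rw [hst, hΩ]; omega)
  exact ⟨F, inferInstance, inferInstance, by omega, e⟩

end Cfsg.Agent.Small
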