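import Mathlib
import Cfsg.Agent.Small.PrimeSylow
import Cfsg.Agent.Small.Count
import Cfsg.Agent.Grp.SelfCentPrime
import Cfsg.Agent.Char.Integrality
import Cfsg.Agent.S1004
import Cfsg.Agent.S1012

/-! The simple group of order `168`: classes and four-groups. -/

set_option autoImplicit false
set_option linter.style.haveILetI false
set_option linter.unusedSectionVars false

namespace Cfsg.Agent.Small.O168

open Subgroup DihedralGroup

instance : Fact (Nat.Prime 7) := ⟨by norm_num⟩

theorem ord_conj {G : Type*} [Group G] {a b : G} (h : IsConj a b) : orderOf a = orderOf b := by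
  obtain ⟨c, hc⟩ := h
  exact SemiconjBy.orderOf_eq _ hc

theorem card_cent_conj {G : Type*} [Group G] {a b : G} (h : IsConj a b) :
    Nat.card (centralizer ({a} : Set G)) = Nat.card (centralizer ({b} : Set G)) := by
  obtain ⟨g, hg⟩ := isConj_iff.1 h
  refine Nat.card_congr ((MulAut.conj g).toEquiv.subtypeEquiv fun y => ?_)
  rw [← hg, mem_centralizer_singleton_iff, mem_centralizer_singleton_iff]
  exact (MulAut.conj g).injective.eq_iff.symm.trans (by simp only [map_mul]; rfl)

theorem card_class {G : Type*} [Group G] [Finite G] (a : G) :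
    Nat.card {g : G // IsConj a g} = (centralizer ({a} : Set G)).index := by
  classical
  haveI := Fintype.ofFinite G
  rw [← Char.card_filter_isConj, Nat.card_eq_fintype_card, Fintype.card_subtype]

variable {G : Type*} [Group G] [Finite G] [IsSimpleGroup G] (h : Nat.card G = 168)
include h

theorem ncomm : ¬ IsMulCommutative G := not_comm_of_card (by rw [h]; norm_num)

theorem data7 : Nat.card (Sylow 7 G) = 8 ∧ ∀ Q : Sylow 7 G, Nat.card (Q : Subgroup G) = 7 ∧
    Nat.card (normalizer ((Q : Subgroup G) : Set G)) = 21 ∧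
    centralizer ((Q : Subgroup G) : Set G) = Q := by
  obtain ⟨n, e, h1, h2, h3, h4, h6, h5⟩ := three_prime_data (p := 7) (q := 2) (r := 3) (a := 3)
    (b := 1) (ncomm h) (by norm_num) (by norm_num) (by norm_num) (by norm_num) (by norm_num)
    (by rw [h]; norm_num)
  have h6 : e ≤ 6 := Nat.le_of_dvd (by norm_num) h4
  have : e = 3 := by interval_cases e <;> omega
  subst this
  exact ⟨by omega, fun Q => ⟨(h5 Q).1, (h5 Q).2.1, (h5 Q).2.2.1⟩⟩

theorem data3 : Nat.card (Sylow 3 G) = 28 ∧ ∀ Q : Sylow 3 G, Nat.card (Q : Subgroup G) = 3 ∧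
    Nat.card (normalizer ((Q : Subgroup G) : Set G)) = 6 ∧
    centralizer ((Q : Subgroup G) : Set G) = Q := by
  obtain ⟨n, e, h1, h2, h3, h4, h6, h5⟩ := three_prime_data (p := 3) (q := 2) (r := 7) (a := 3)
    (b := 1) (ncomm h) (by norm_num) (by norm_num) (by norm_num) (by norm_num) (by norm_num)
    (by rw [h]; norm_num)
  have h6 : e ≤ 2 := Nat.le_of_dvd (by norm_num) h4
  have : e = 2 := by omega
  subst this
  exact ⟨by omega, fun Q => ⟨(h5 Q).1, (h5 Q).2.1, (h5 Q).2.2.1⟩⟩

theorem card2 (T : Sylow 2 G) : Nat.card (T : Subgroup G) = 8 :=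
  card_sylow_subgroup (p := 2) (k := 3) (m := 21) h (by norm_num) T

theorem cent7 {y : G} (hy : orderOf y = 7) : centralizer ({y} : Set G) = zpowers y := by
  obtain ⟨Q, hQ⟩ := exists_sylow_eq_zpowers (p := 7) (m := 24) h (by norm_num) hy
  rw [← centralizer_zpowers, ← hQ, ((data7 h).2 Q).2.2]

theorem cent3 {y : G} (hy : orderOf y = 3) : centralizer ({y} : Set G) = zpowers y := by
  obtain ⟨Q, hQ⟩ := exists_sylow_eq_zpowers (p := 3) (m := 56) h (by norm_num) hy
  rw [← centralizer_zpowers, ← hQ, ((data3 h).2 Q).2.2]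

theorem idx {H : Subgroup G} {m n : ℕ} (hH : Nat.card H = m) (hmn : n * m = 168) :
    H.index = n := by
  have := H.index_mul_card
  rw [hH, h, ← hmn] at this
  exact Nat.eq_of_mul_eq_mul_right (by rw [← hH]; exact Nat.card_pos) this

theorem not_conj7 {b : G} (hb : orderOf b = 7) : ¬ IsConj b b⁻¹ := by
  intro hc
  obtain ⟨g, hg⟩ := isConj_iff.1 hc
  obtain ⟨Q, hQ⟩ := exists_sylow_eq_zpowers (p := 7) (m := 24) h (by norm_num) hb
  have h1 : g ∈ normalizer ((Q : Subgroup G) : Set G) := by
    rw [hQ]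
    refine mem_normalizer_fintype ?_
    rintro _ ⟨k, rfl⟩
    rw [← conj_zpow, hg]
    exact zpow_mem (inv_mem (mem_zpowers b)) k
  have h2 := Subgroup.orderOf_dvd_natCard _ h1
  rw [((data7 h).2 Q).2.1, orderOf_dvd_iff_pow_eq_one] at h2
  have h3 : ∀ k : ℕ, g ^ (2 * k + 1) * b * (g ^ (2 * k + 1))⁻¹ = b⁻¹ := fun k => by
    induction k with
    | zero => simpa using hg
    | succ k ih =>
      calc g ^ (2 * (k + 1) + 1) * b * (g ^ (2 * (k + 1) + 1))⁻¹ =
          g * (g * (g ^ (2 * k + 1) * b * (g ^ (2 * k + 1))⁻¹) * g⁻¹) * g⁻¹ := by group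
        _ = g * (g * b * g⁻¹)⁻¹ * g⁻¹ := by rw [ih]; group
        _ = b⁻¹ := by rw [hg, inv_inv, hg]
  have h4 := h3 10
  rw [h2] at h4
  have h5 : b ^ 2 = 1 := by rw [sq]; exact mul_eq_one_iff_eq_inv.2 (by simpa using h4)
  have := orderOf_dvd_of_pow_eq_one h5
  rw [hb] at this
  omega

theorem exists_emb (T : Sylow 2 G) : ∃ f : DihedralGroup 4 →* G, Function.Injective f ∧
    f.range = T ∧ centralizer {f (r 2)} = (T : Subgroup G) := by
  obtain ⟨⟨e⟩, -, h3⟩ := S1004.result h T
  refine ⟨(T : Subgroup G).subtype.comp e.symm.toMonoidHom,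
    Subtype.val_injective.comp e.symm.injective, ?_, h3 _ (e.symm _).2 ?_ fun t ht => ?_⟩
  · rw [MonoidHom.range_comp, MonoidHom.range_eq_top.2 e.symm.surjective, ← MonoidHom.range_eq_map,
      range_subtype]
  · intro e1
    have : e.symm (r 2) = 1 := Subtype.ext e1
    rw [map_eq_one_iff _ e.symm.injective] at this
    exact absurd this (by decide)
  · obtain ⟨d, hd⟩ := e.symm.surjective ⟨t, ht⟩
    have h1 : d * r 2 = r 2 * d := (by decide : ∀ d : DihedralGroup 4, d * r 2 = r 2 * d) d
    have := congrArg (fun x => (e.symm x : G)) h1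
    simpa [hd] using this

theorem classes : ∃ z y a b : G, orderOf z = 2 ∧ orderOf y = 4 ∧ orderOf a = 3 ∧ orderOf b = 7 ∧
    Nat.card (centralizer ({z} : Set G)) = 8 ∧ Nat.card (centralizer ({y} : Set G)) = 4 ∧
    ∀ g, g = 1 ∨ IsConj z g ∨ IsConj y g ∨ IsConj a g ∨ IsConj b g ∨ IsConj b⁻¹ g := by
  classical
  haveI := Fintype.ofFinite G
  obtain ⟨T⟩ : Nonempty (Sylow 2 G) := inferInstance
  obtain ⟨f, hf, h1, h2⟩ := exists_emb h T
  obtain ⟨a, ha⟩ := exists_prime_orderOf_dvd_card' (G := G) 3 (by rw [h]; norm_num)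
  obtain ⟨b, hb⟩ := exists_prime_orderOf_dvd_card' (G := G) 7 (by rw [h]; norm_num)
  have hz : orderOf (f (r 2)) = 2 := by
    rw [orderOf_injective f hf]; exact orderOf_eq_prime (by decide) (by decide)
  have hy : orderOf (f (r 1)) = 4 := by rw [orderOf_injective f hf, orderOf_r_one]
  have cz : Nat.card (centralizer ({f (r 2)} : Set G)) = 8 := by rw [h2, card2 h]
  have cy : centralizer ({f (r 1)} : Set G) = zpowers (f (r 1)) := by
    refine le_antisymm (fun g hg => ?_) (zpowers_le.2 (mem_centralizer_singleton_iff.2 rfl))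
    rw [mem_centralizer_singleton_iff] at hg
    have h3 : g ∈ f.range := by
      rw [h1, ← h2, mem_centralizer_singleton_iff, show (r 2 : DihedralGroup 4) = r 1 * r 1 by decide,
        map_mul, ← mul_assoc, hg, mul_assoc, hg, mul_assoc]
    obtain ⟨d, rfl⟩ := h3
    rw [← map_mul, ← map_mul, hf.eq_iff] at hg
    have : ∃ k : Fin 4, d = r 1 ^ (k : ℕ) := (by decide : ∀ d : DihedralGroup 4,
      d * r 1 = r 1 * d → ∃ k : Fin 4, d = r 1 ^ (k : ℕ)) d hg
    obtain ⟨k, rfl⟩ := this
    rw [map_pow]; exact npow_mem_zpowers _ _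
  have cy' : Nat.card (centralizer ({f (r 1)} : Set G)) = 4 := by rw [cy, Nat.card_zpowers, hy]
  refine ⟨_, _, a, b, hz, hy, ha, hb, cz, cy', fun g => ?_⟩
  have hb' : orderOf b⁻¹ = 7 := by rw [orderOf_inv, hb]
  have c1 := (Char.card_filter_isConj (f (r 2))).trans (idx h cz (n := 21) rfl)
  have c2 := (Char.card_filter_isConj (f (r 1))).trans (idx h cy' (n := 42) rfl)
  have c3 := (Char.card_filter_isConj a).trans (idx h (m := 3)
    (by rw [cent3 h ha, Nat.card_zpowers, ha]) (n := 56) rfl)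
  have c4 := (Char.card_filter_isConj b).trans (idx h (m := 7)
    (by rw [cent7 h hb, Nat.card_zpowers, hb]) (n := 24) rfl)
  have c5 := (Char.card_filter_isConj b⁻¹).trans (idx h (m := 7)
    (by rw [cent7 h hb', Nat.card_zpowers, hb']) (n := 24) rfl)
  have d : ∀ u v : G, ¬ IsConj u v →
      Disjoint (Finset.univ.filter (IsConj u)) (Finset.univ.filter (IsConj v)) := fun u v huv =>
    Finset.disjoint_filter.2 fun x _ h1 h2 => huv (h1.trans h2.symm)
  have d' : ∀ u v : G, orderOf u ≠ orderOf v →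
      Disjoint (Finset.univ.filter (IsConj u)) (Finset.univ.filter (IsConj v)) := fun u v huv =>
    d u v fun e => huv (ord_conj e)
  have c0 : (Finset.univ.filter (IsConj (1 : G))).card = 1 := by
    rw [Finset.card_eq_one]; exact ⟨1, by ext; simp [eq_comm]⟩
  have hu : Finset.univ.filter (IsConj (1 : G)) ∪ (Finset.univ.filter (IsConj (f (r 2))) ∪
      (Finset.univ.filter (IsConj (f (r 1))) ∪ (Finset.univ.filter (IsConj a) ∪
      (Finset.univ.filter (IsConj b) ∪ Finset.univ.filter (IsConj b⁻¹))))) = Finset.univ := by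
    apply Finset.eq_univ_of_card
    rw [Finset.card_union_of_disjoint, Finset.card_union_of_disjoint, Finset.card_union_of_disjoint,
      Finset.card_union_of_disjoint, Finset.card_union_of_disjoint (d _ _ (not_conj7 h hb)),
      c0, c1, c2, c3, c4, c5, ← Nat.card_eq_fintype_card, h] <;>
    simp only [Finset.disjoint_union_right] <;>
    (repeat' constructor) <;> exact d' _ _ (by simp only [hz, hy, ha, hb, hb', orderOf_one]; norm_num)
  have := hu ▸ Finset.mem_univ g
  simpa only [Finset.mem_union, Finset.mem_filter, Finset.mem_univ, true_and, isConj_one_right]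
    using this

theorem orders (g : G) : orderOf g = 1 ∨ orderOf g = 2 ∨ orderOf g = 3 ∨ orderOf g = 4 ∨
    orderOf g = 7 := by
  obtain ⟨z, y, a, b, hz, hy, ha, hb, -, -, hc⟩ := classes h
  rcases hc g with rfl | e | e | e | e | e
  · simp
  all_goals
    have := ord_conj e
    try rw [orderOf_inv] at this
    omega

theorem cent2 {u : G} (hu : orderOf u = 2) :
    ∃ T : Sylow 2 G, centralizer {u} = (T : Subgroup G) := by
  obtain ⟨z, y, a, b, hz, hy, ha, hb, cz, -, hc⟩ := classes h
  have h1 : IsConj z u := by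
    rcases hc u with rfl | e | e | e | e | e
    · simp at hu
    · exact e
    all_goals
      have := ord_conj e
      try rw [orderOf_inv] at this
      omega
  rw [card_cent_conj h1] at cz
  obtain ⟨T, hT⟩ := (IsPGroup.of_card (p := 2) (n := 3) cz).exists_le_sylow
  exact ⟨T, eq_of_le_of_card_ge hT (by rw [cz, card2 h])⟩

omit h in
theorem klein_D8 (K : Subgroup (DihedralGroup 4)) (hK : IsKleinFour K) :
    K = centralizer {sr 0} ∨ K = centralizer {sr 1} := by
  have h1 : ∀ d ∈ K, d * d = 1 := fun d hd =>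
    congrArg Subtype.val (IsKleinFour.mul_self (⟨d, hd⟩ : K))
  have h2 : ∀ d ∈ K, ∀ e ∈ K, d * e = e * d := fun d hd e he =>
    congrArg Subtype.val (IsKleinFour.isMulCommutative.is_comm.comm (⟨d, hd⟩ : K) ⟨e, he⟩)
  have h4 : ∀ i : ZMod 4, Nat.card (centralizer ({sr i} : Set (DihedralGroup 4))) = 4 := by
    intro i
    rw [Nat.card_congr (Equiv.subtypeEquivRight fun _ => mem_centralizer_singleton_iff),
      Nat.card_eq_fintype_card]
    revert i; decide
  obtain ⟨i, hi⟩ : ∃ i, sr i ∈ K := by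
    by_contra e
    push Not at e
    have h3 : K ≤ zpowers (r 2) := by
      rintro (j | j) hj
      · obtain ⟨k, hk⟩ := (by decide : ∀ j : ZMod 4, (r j * r j : DihedralGroup 4) = 1 →
          ∃ k : Fin 2, r j = (r 2 : DihedralGroup 4) ^ (k : ℕ)) j (h1 _ hj)
        rw [hk]; exact npow_mem_zpowers _ _
      · exact absurd hj (e j)
    have := card_le_of_le h3
    rw [hK.card_four, Nat.card_zpowers,
      orderOf_eq_prime (p := 2) (by decide) (by decide)] at this
    omega
  have h5 : K = centralizer {sr i} := eq_of_le_of_card_ge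
    (fun d hd => mem_centralizer_singleton_iff.2 (h2 d hd _ hi)) (by rw [h4, hK.card_four])
  rw [h5]
  have h6 : (∀ d : DihedralGroup 4, d * sr i = sr i * d ↔ d * sr 0 = sr 0 * d) ∨
      ∀ d : DihedralGroup 4, d * sr i = sr i * d ↔ d * sr 1 = sr 1 * d := by
    clear h5 hi; revert i; decide
  rcases h6 with e | e
  · left; ext d; simp only [mem_centralizer_singleton_iff, e]
  · right; ext d; simp only [mem_centralizer_singleton_iff, e]

omit h in
theorem isKlein_D8 (i : ZMod 4) : IsKleinFour (centralizer ({sr i} : Set (DihedralGroup 4))) := by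
  have h4 : Nat.card (centralizer ({sr i} : Set (DihedralGroup 4))) = 4 := by
    rw [Nat.card_congr (Equiv.subtypeEquivRight fun _ => mem_centralizer_singleton_iff),
      Nat.card_eq_fintype_card]
    revert i; decide
  haveI : Nontrivial (centralizer ({sr i} : Set (DihedralGroup 4))) :=
    Finite.one_lt_card_iff_nontrivial.1 (by omega)
  refine ⟨h4, Monoid.exponent_eq_prime_iff Nat.prime_two |>.2 fun g hg => orderOf_eq_prime
    (Subtype.ext ?_) hg⟩
  exact (by decide : ∀ (i : ZMod 4) (d : DihedralGroup 4), d * sr i = sr i * d → d ^ 2 = 1) i g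
    (mem_centralizer_singleton_iff.1 g.2)

omit h in
theorem klein_of_equiv {A B : Type*} [Group A] [Group B] (e : A ≃* B) (hA : IsKleinFour A) :
    IsKleinFour B :=
  ⟨by rw [← Nat.card_congr e.toEquiv, hA.card_four],
    by rw [← Monoid.exponent_eq_of_mulEquiv e, hA.exponent_two]⟩

theorem two_klein (T : Sylow 2 G) : ∃ U W : Subgroup G, U ≠ W ∧
    ∀ K : Subgroup G, K ≤ T ∧ IsKleinFour K ↔ K = U ∨ K = W := by
  obtain ⟨f, hf, h1, -⟩ := exists_emb h T
  refine ⟨(centralizer {sr 0}).map f, (centralizer {sr 1}).map f, fun e => ?_, fun K => ⟨?_, ?_⟩⟩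
  · have h2 := map_injective hf e
    have h3 : (sr 0 : DihedralGroup 4) ∈ centralizer ({sr 1} : Set (DihedralGroup 4)) :=
      h2 ▸ mem_centralizer_singleton_iff.2 rfl
    exact absurd (mem_centralizer_singleton_iff.1 h3) (by decide)
  · rintro ⟨h2, h3⟩
    have h4 : (K.comap f).map f = K := map_comap_eq_self (h1 ▸ h2)
    have h5 : IsKleinFour (K.comap f) :=
      klein_of_equiv ((K.comap f).equivMapOfInjective f hf).symm (h4.symm ▸ h3)
    rcases klein_D8 _ h5 with e | e
    · left; rw [← h4, e]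
    · right; rw [← h4, e]
  · rintro (rfl | rfl)
    · exact ⟨h1 ▸ map_le_range _ _, klein_of_equiv (equivMapOfInjective _ f hf) (isKlein_D8 0)⟩
    · exact ⟨h1 ▸ map_le_range _ _, klein_of_equiv (equivMapOfInjective _ f hf) (isKlein_D8 1)⟩

theorem le_norm {U : Subgroup G} (hU : IsKleinFour U) {T : Sylow 2 G} (hT : U ≤ T) :
    (T : Subgroup G) ≤ normalizer (U : Set G) := by
  have h1 : (U.subgroupOf T).index = 2 := by
    have := (U.subgroupOf T).index_mul_card
    rw [Nat.card_congr (subgroupOfEquivOfLe hT).toEquiv, hU.card_four, card2 h] at this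
    omega
  exact (normal_subgroupOf_iff_le_normalizer hT).1 (normal_of_index_eq_two h1)

omit h in
theorem klein_le_cent {U : Subgroup G} (hU : IsKleinFour U) {u : G} (hu : u ∈ U) :
    U ≤ centralizer {u} := fun v hv => mem_centralizer_singleton_iff.2
  (congrArg Subtype.val (IsKleinFour.isMulCommutative.is_comm.comm (⟨v, hv⟩ : U) ⟨u, hu⟩))

omit h in
theorem klein_ord {U : Subgroup G} (hU : IsKleinFour U) {u : G} (hu : u ∈ U) (h1 : u ≠ 1) :
    orderOf u = 2 := orderOf_eq_prime
  ((sq u).trans (congrArg Subtype.val (IsKleinFour.mul_self (⟨u, hu⟩ : U)))) h1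

theorem eq_of_cent_eq {u v : G} (hu : orderOf u = 2) (hv : orderOf v = 2)
    (e : centralizer ({u} : Set G) = centralizer {v}) : u = v := by
  obtain ⟨T, hT⟩ := cent2 h hu
  obtain ⟨f, hf, h1, -⟩ := exists_emb h T
  have key : ∀ w : G, orderOf w = 2 → centralizer ({w} : Set G) = T → w = f (r 2) := by
    intro w hw hc
    obtain ⟨d, rfl⟩ : w ∈ f.range := by
      rw [h1, ← hc]; exact mem_centralizer_singleton_iff.2 rfl
    rw [(by decide : ∀ d : DihedralGroup 4, d ≠ 1 → (∀ x, x * d = d * x) → d = r 2) d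
      (by rintro rfl; simp at hw) fun x => hf (by
        rw [map_mul, map_mul, ← mem_centralizer_singleton_iff, hc, ← h1]; exact ⟨x, rfl⟩)]
  rw [key u hu hT, key v hv (e ▸ hT)]

theorem exists_two {U : Subgroup G} (hU : IsKleinFour U) :
    ∃ u ∈ U, ∃ v ∈ U, u ≠ 1 ∧ v ≠ 1 ∧ u ≠ v := by
  haveI := Fintype.ofFinite U
  obtain ⟨a, b, c, hab, hac, hbc⟩ := Fintype.two_lt_card_iff.1
    (show 2 < Fintype.card U by rw [← Nat.card_eq_fintype_card, hU.card_four]; norm_num)
  by_cases ha : a = 1
  · subst ha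
    exact ⟨b, b.2, c, c.2, fun e => hab (Subtype.ext e).symm, fun e => hac (Subtype.ext e).symm,
      fun e => hbc (Subtype.ext e)⟩
  by_cases hb : b = 1
  · subst hb
    exact ⟨a, a.2, c, c.2, fun e => hab (Subtype.ext e), fun e => hbc (Subtype.ext e).symm,
      fun e => hac (Subtype.ext e)⟩
  exact ⟨a, a.2, b, b.2, fun e => ha (Subtype.ext e), fun e => hb (Subtype.ext e),
    fun e => hab (Subtype.ext e)⟩

theorem seven_le (H : Subgroup G) (hH : H ≠ ⊤) : 7 ≤ H.index := by
  have h2 := two_mul_card_dvd_factorial (ncomm h) H hH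
  rw [h] at h2
  exact (Nat.Prime.dvd_factorial (by norm_num)).1 ((by norm_num : 7 ∣ 2 * 168).trans h2)

theorem card_norm {U : Subgroup G} (hU : IsKleinFour U) :
    Nat.card (normalizer (U : Set G)) = 24 := by
  obtain ⟨u, hu, v, hv, hu1, hv1, huv⟩ := exists_two h hU
  obtain ⟨T, hT⟩ := cent2 h (klein_ord hU hu hu1)
  obtain ⟨T', hT'⟩ := cent2 h (klein_ord hU hv hv1)
  have h1 := le_norm h hU (hT ▸ klein_le_cent hU hu : U ≤ T)
  have h2 := le_norm h hU (hT' ▸ klein_le_cent hU hv : U ≤ T')
  have h3 := seven_le h _ (normalizer_ne_top_of_ne (H := U) (by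
    rintro rfl; exact hu1 hu) (by
    rintro rfl
    have := hU.card_four
    rw [card_top, h] at this; omega))
  have h4 := card_dvd_of_le h1
  have h5 := (normalizer (U : Set G)).index_mul_card
  have h6 : Nat.card (normalizer (U : Set G)) ≠ 8 := fun e => huv (eq_of_cent_eq h
    (klein_ord hU hu hu1) (klein_ord hU hv hv1) (by
      rw [hT, hT', eq_of_le_of_card_ge h1 (by rw [e, card2 h]),
        eq_of_le_of_card_ge h2 (by rw [e, card2 h])]))
  rw [card2 h] at h4
  rw [h] at h5
  obtain ⟨k, hk⟩ := h4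
  rw [hk] at h5 h6 ⊢
  have : k ≤ 3 := by nlinarith
  interval_cases k <;> omega

theorem norm_equiv {U : Subgroup G} (hU : IsKleinFour U) :
    Nonempty (normalizer (U : Set G) ≃* Equiv.Perm (Fin 4)) :=
  S1012.result (card_norm h hU) fun g hg => by
    have := orders h (g : G)
    rw [orderOf_coe, hg] at this
    omega

theorem not_conj (T : Sylow 2 G) {U W : Subgroup G} (hUT : U ≤ T) (hWT : W ≤ T)
    (hU : IsKleinFour U) (hW : IsKleinFour W) (g : G)
    (e : U.map (MulAut.conj g).toMonoidHom = W) : U = W := by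
  have h1 := le_norm h hU hUT
  have h2 := le_norm h hW hWT
  have h3 : ((g • T : Sylow 2 G) : Subgroup G) ≤ normalizer (W : Set G) := le_norm h hW (by
    rw [← e]; exact map_mono hUT)
  obtain ⟨n, hn⟩ := MulAction.exists_smul_eq (normalizer (W : Set G))
    ((g • T).subtype h3) (T.subtype h2)
  rw [Sylow.smul_subtype] at hn
  replace hn := Sylow.subtype_injective hn
  rw [Subgroup.smul_def, ← mul_smul, Sylow.smul_eq_iff_mem_normalizer] at hn
  have h4 : (n : G) * g ∈ normalizer (U : Set G) := h1 (by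
    rw [← (S1004.result h T).2.1]; exact hn)
  refine eq_of_le_of_card_ge (fun x hx => ?_) (by rw [hU.card_four, hW.card_four])
  have h5 := (mem_normalizer_iff''.1 h4 x).1 hx
  have h6 : g * (((n : G) * g)⁻¹ * x * (n * g)) * g⁻¹ ∈ W := e.le ⟨_, h5, rfl⟩
  have h7 := (mem_normalizer_iff.1 n.2 _).1 h6
  rwa [show (n : G) * (g * (((n : G) * g)⁻¹ * x * (n * g)) * g⁻¹) * (n : G)⁻¹ = x by group] at h7

end Cfsg.Agent.Small.O168
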