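import Mathlib
import Cfsg.Agent.Small.SieveBase

/-!
There is no simple group of order 5400.
-/

set_option autoImplicit false
set_option linter.style.haveILetI false
set_option linter.unusedSectionVars false

namespace Cfsg.Agent.Small

open Subgroup
open scoped Pointwise

variable {G : Type*} [Group G] [Finite G] {p : ℕ} [hp : Fact p.Prime]

omit [Finite G] hp in
theorem inf_smul_sylow {P : Sylow p G} {g : G} (hg : g • P = P) (R : Sylow p G) :
    (P : Subgroup G) ⊓ (g • R : Sylow p G) = MulAut.conj g • ((P : Subgroup G) ⊓ R) := by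
  rw [Subgroup.smul_inf, ← Sylow.coe_subgroup_smul, ← Sylow.coe_subgroup_smul, hg]

omit [Finite G] hp in
theorem inf_smul_eq_bot_iff {P : Sylow p G} {g : G} (hg : g • P = P) (R : Sylow p G) :
    (P : Subgroup G) ⊓ (g • R : Sylow p G) = ⊥ ↔ (P : Subgroup G) ⊓ R = ⊥ := by
  rw [inf_smul_sylow hg, ← Subgroup.smul_bot (MulAut.conj g), smul_left_cancel_iff,
    Subgroup.smul_bot]

/-- the order of `P` divides the number of Sylow subgroups meeting `P` trivially -/
theorem card_dvd_card_inf_bot (P : Sylow p G) :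
    Nat.card (P : Subgroup G) ∣ Nat.card {R : Sylow p G // (P : Subgroup G) ⊓ R = ⊥} := by
  let S : SubMulAction (P : Subgroup G) (Sylow p G) :=
    ⟨{R | (P : Subgroup G) ⊓ R = ⊥}, fun g R hR =>
      (inf_smul_eq_bot_iff (Sylow.smul_eq_iff_mem_normalizer.2 (le_normalizer g.2)) R).2 hR⟩
  have h : ∀ R : S, MulAction.stabilizer (P : Subgroup G) R = ⊥ := by
    intro R
    rw [eq_bot_iff]
    intro g hg
    have h1 : (g : G) • (R : Sylow p G) = R := congrArg Subtype.val hg
    have h2 : (g : G) ∈ (P : Subgroup G) ⊓ normalizer ((R : Sylow p G) : Set G) :=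
      ⟨g.2, Sylow.smul_eq_iff_mem_normalizer.1 h1⟩
    rw [P.2.inf_normalizer_sylow, show (P : Subgroup G) ⊓ (R : Sylow p G) = ⊥ from R.2] at h2
    exact Subtype.ext h2
  have := Nat.card_congr (MulAction.selfEquivOrbitsQuotientProd h)
  rw [Nat.card_prod] at this
  exact Dvd.intro_left _ this.symm

/-- an element of prime power order normalising `P` fixes a second Sylow subgroup meeting `P` -/
theorem exists_fixed_meeting (P : Sylow p G) {q k : ℕ} [Fact q.Prime] {t : G}
    (ht : t ^ q ^ k = 1) (htP : t • P = P)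
    (h : ¬ q ∣ Nat.card {R : Sylow p G // R ≠ P ∧ (P : Subgroup G) ⊓ R ≠ ⊥}) :
    ∃ R : Sylow p G, R ≠ P ∧ (P : Subgroup G) ⊓ R ≠ ⊥ ∧ t • R = R := by
  have hz : ∀ g : zpowers t, (g : G) • P = P := fun g =>
    (zpowers_le (H := MulAction.stabilizer G P)).2 htP g.2
  let S : SubMulAction (zpowers t) (Sylow p G) :=
    ⟨{R | R ≠ P ∧ (P : Subgroup G) ⊓ R ≠ ⊥}, fun g R hR =>
      ⟨fun h => hR.1 (smul_left_cancel (g : G) (h.trans (hz g).symm)),
        fun h => hR.2 ((inf_smul_eq_bot_iff (hz g) R).1 h)⟩⟩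
  have hq : IsPGroup q (zpowers t) := by
    rintro ⟨_, i, rfl⟩
    refine ⟨k, Subtype.ext ?_⟩
    change (t ^ i) ^ q ^ k = 1
    rw [← zpow_natCast, ← zpow_mul, mul_comm, zpow_mul, zpow_natCast, ht, one_zpow]
  obtain ⟨R, hR⟩ := hq.nonempty_fixed_point_of_prime_not_dvd_card S h
  exact ⟨R, R.2.1, R.2.2, congrArg Subtype.val (hR ⟨t, mem_zpowers t⟩)⟩

theorem card_split (P : Sylow p G) (hP : (P : Subgroup G) ≠ ⊥) :
    Nat.card (Sylow p G) = 1 + Nat.card {R : Sylow p G // (P : Subgroup G) ⊓ R = ⊥} +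
      Nat.card {R : Sylow p G // R ≠ P ∧ (P : Subgroup G) ⊓ R ≠ ⊥} := by
  classical
  haveI := Fintype.ofFinite (Sylow p G)
  simp only [Nat.card_eq_fintype_card, Fintype.card_subtype]
  rw [← Finset.card_singleton P, ← Finset.card_union_of_disjoint, ← Finset.card_union_of_disjoint,
    ← Finset.card_univ]
  · congr 1
    ext R
    by_cases h1 : R = P <;> by_cases h2 : (P : Subgroup G) ⊓ R = ⊥ <;> simp [h1, h2]
  · rw [Finset.disjoint_left]
    intro R h1 h2
    simp only [Finset.mem_union, Finset.mem_singleton, Finset.mem_filter, Finset.mem_univ,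
      true_and] at h1 h2
    tauto
  · simpa using hP

/-- in a group of order twice an odd number the Sylow `p`-subgroups lie in a subgroup of index 2 -/
theorem card_sylow_dvd_half (hp2 : p ≠ 2) {m : ℕ} (h : Nat.card G = 2 * m) (hm : ¬ 2 ∣ m) :
    Nat.card (Sylow p G) ∣ m := by
  obtain ⟨T⟩ : Nonempty (Sylow 2 G) := inferInstance
  obtain ⟨P⟩ : Nonempty (Sylow p G) := inferInstance
  have hT : Nat.card (T : Subgroup G) = 2 := by
    simpa using card_sylow_subgroup (k := 1) (by simpa using h) hm T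
  have h1 := card_sylow_mul_card_normalizer P
  have h2 : ¬ 2 ∣ Nat.card (Sylow p G) := by
    intro h2
    have hc : IsCyclic (T : Subgroup G) := isCyclic_of_prime_card hT
    have hmin : (Nat.card G).minFac = 2 := by rw [h, Nat.minFac_eq_two_iff]; simp
    have hK := hc.isComplement' hmin
    set K := (MonoidHom.transferSylow T (hc.normalizer_le_centralizer hmin)).ker
    have hKi : K.index = 2 := hK.symm.index_eq_card.trans hT
    have hPK : (P : Subgroup G) ≤ K := by
      intro g hg
      obtain ⟨k, hk⟩ := P.2 ⟨g, hg⟩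
      have h3 : g ^ p ^ k ∈ K := by
        have : g ^ p ^ k = 1 := congrArg Subtype.val hk
        rw [this]; exact one_mem _
      have h4 : g ^ 2 ∈ K := hKi ▸ K.pow_index_mem g
      obtain ⟨j, hj⟩ := (hp.out.odd_of_ne_two hp2).pow (n := k)
      rw [hj, pow_succ, pow_mul] at h3
      exact (K.mul_mem_cancel_left (pow_mem h4 j)).1 h3
    have h5 := Sylow.normalizer_sup_eq_top' P hPK
    have h6 : 2 ∣ Nat.card (normalizer ((P : Subgroup G) : Set G)) := by
      rw [← hKi, ← relIndex_top_right, ← h5, relIndex_sup_right]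
      exact relIndex_dvd_card _ _
    have h7 := mul_dvd_mul h2 h6
    rw [h1, h] at h7
    omega
  exact (Nat.Coprime.dvd_mul_left ((Nat.prime_two.coprime_iff_not_dvd.2 h2).symm)).1
    (h ▸ Dvd.intro _ h1)

theorem card_ne_5400 [IsSimpleGroup G] : Nat.card G ≠ 5400 := by
  intro hn
  have hG : ¬ IsMulCommutative G := not_comm_of_card (by rw [hn]; norm_num)
  haveI : Fact (Nat.Prime 5) := ⟨by norm_num⟩
  haveI : Fact (Nat.Prime 3) := ⟨by norm_num⟩
  have h0 : Nat.card G = 5 ^ 2 * 216 := hn
  have h5 : 5 ∣ Nat.card G := by rw [hn]; norm_num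
  obtain ⟨P⟩ : Nonempty (Sylow 5 G) := inferInstance
  have hP : ∀ Q : Sylow 5 G, Nat.card (Q : Subgroup G) = 5 ^ 2 :=
    card_sylow_subgroup h0 (by norm_num)
  have hcomm : ∀ Q : Sylow 5 G, IsMulCommutative (Q : Subgroup G) := fun Q =>
    IsPGroup.isMulCommutative_of_card_eq_prime_sq (hP Q)
  have h1 := card_sylow_dvd h0 (by norm_num)
  have h2 := card_sylow_modEq_one 5 G
  have h3 := card_sylow_ne_one hG h5
  have h4 := two_mul_card_dvd_factorial_sylow hG h5
  have h6 := card_sylow_mul_card_normalizer P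
  rw [hn] at h4 h6
  have hk : Nat.card (Sylow 5 G) = 36 ∨ Nat.card (Sylow 5 G) = 216 := by
    generalize Nat.card (Sylow 5 G) = k at *
    have h7 : k ∈ Nat.divisors 216 := Nat.mem_divisors.2 ⟨h1, by norm_num⟩
    have h8 : ∀ k ∈ Nat.divisors 216, k % 5 = 1 % 5 → k ≠ 1 → k = 6 ∨ k = 36 ∨ k = 216 := by decide
    rcases h8 k h7 h2 h3 with rfl | h | h
    · exact absurd h4 (by decide)
    · exact Or.inl h
    · exact Or.inr h
  rcases hk with hk | hk
  swap
  · rw [hk] at h6
    refine not_normalizer_le_centralizer hG P h5 ?_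
    rw [← eq_of_le_of_card_ge (le_normalizer (H := (P : Subgroup G))) (by rw [hP]; omega)]
    haveI := hcomm P
    exact le_centralizer _
  rw [hk] at h6
  obtain ⟨t, ht⟩ := exists_prime_orderOf_dvd_card' (G := normalizer ((P : Subgroup G) : Set G)) 3
    (by omega)
  have ht' : orderOf (t : G) = 3 := by rw [orderOf_coe, ht]
  have htP : (t : G) • P = P := Sylow.smul_eq_iff_mem_normalizer.2 t.2
  have hPb : (P : Subgroup G) ≠ ⊥ := P.ne_bot_of_dvd_card h5
  have h7 := card_split P hPb
  have h8 := card_dvd_card_inf_bot P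
  rw [hP] at h8
  obtain ⟨R, hR1, hR2, hR3⟩ := exists_fixed_meeting P (q := 3) (k := 1) (t := t)
    (by rw [pow_one, ← ht', pow_orderOf_eq_one]) htP (by omega)
  set H := normalizer (((P : Subgroup G) ⊓ R : Subgroup G) : Set G) with hH
  have hHt : H ≠ ⊤ := normalizer_inf_ne_top hG P R hR2
  haveI := hcomm P
  haveI := hcomm R
  have hPH : (P : Subgroup G) ≤ H :=
    (le_centralizer_of_le_comm inf_le_left).trans (centralizer_le_normalizer _)
  have hRH : (R : Subgroup G) ≤ H :=
    (le_centralizer_of_le_comm inf_le_right).trans (centralizer_le_normalizer _)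
  have htH : (t : G) ∈ H := by
    have := inf_smul_sylow htP R
    rw [hR3] at this
    exact (conjAct_pointwise_smul_iff.1 this.symm)
  obtain ⟨n, e1, e2, e3, e4⟩ := exists_dvd_card_of_two_sylow hR1.symm hPH hRH
  have e5 := card_sylow_mul_card_normalizer (P.subtype hPH)
  have e6 : 3 ∣ Nat.card (normalizer ((P.subtype hPH : Subgroup H) : Set H)) := by
    rw [← ht', show orderOf (t : G) = orderOf (⟨t, htH⟩ : H) from orderOf_coe (⟨t, htH⟩ : H)]
    refine Subgroup.orderOf_dvd_natCard _ ?_
    refine Sylow.smul_eq_iff_mem_normalizer.1 ?_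
    rw [Sylow.smul_subtype]
    congr
  have e7 := H.card_mul_index
  have e8 := two_mul_card_dvd_factorial hG H hHt
  rw [hn] at e7 e8
  rw [hP P] at e4
  rw [← e3] at e5
  have e9 : 75 * n ∣ Nat.card H := by
    have : 25 ∣ Nat.card (normalizer ((P.subtype hPH : Subgroup H) : Set H)) := by
      rw [← e5, mul_comm n] at e4
      exact Nat.dvd_of_mul_dvd_mul_right (by omega) e4
    rw [← e5, mul_comm n]
    exact Nat.mul_dvd_mul_right (by omega) n
  obtain ⟨j, hj⟩ := e9
  have e10 : n * (j * H.index) = 72 := by rw [hj] at e7; nlinarith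
  have e11 : 10 ≤ H.index := by
    by_contra h
    exact absurd (e8.trans (Nat.factorial_dvd_factorial (n := 9) (by omega))) (by decide)
  have hj0 : 0 < j := Nat.pos_of_ne_zero (by rintro rfl; simp at e10)
  have e12 : n = 6 := by
    have : n ≤ 7 := by nlinarith [Nat.mul_le_mul hj0 e11]
    omega
  rw [e12] at e3 hj e10
  have e13 : j = 1 := by
    have : j < 2 := by nlinarith
    omega
  subst e13
  have := card_sylow_dvd_half (G := H) (p := 5) (m := 225) (by norm_num) hj (by norm_num)
  rw [← e3] at this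
  omega

end Cfsg.Agent.Small
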