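import Mathlib
import Cfsg.Agent.Small.Sieve

/-!
Degrees in the principal block of a Sylow subgroup of odd prime order, modulo `p`.
-/

set_option autoImplicit false
set_option linter.style.haveILetI false

namespace Cfsg.Agent.Small

open Subgroup Cfsg.Agent.Char Cfsg.Agent.Char.SelfC Sieve

variable {G : Type*} [Group G] [Finite G] {p : ℕ} [hp : Fact p.Prime]

theorem deg_mod_of_principal (hp2 : p ≠ 2) (P : Sylow p G) (hP : Nat.card (P : Subgroup G) = p)
    {e : ℕ} (he : (centralizer ((P : Subgroup G) : Set G)).relIndex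
      (normalizer ((P : Subgroup G) : Set G)) = e) {M : Ideal AlgInt} (hM : IsPModular p M)
    {χ : IrrCharacter G} (hχ : χ ∈ principalBlock M G) :
    (charDegree (χ : G → ℂ) : ℤ) ≡ 1 [ZMOD p] ∨ (charDegree (χ : G → ℂ) : ℤ) ≡ -1 [ZMOD p] ∨
      (charDegree (χ : G → ℂ) : ℤ) ≡ e [ZMOD p] ∨ (charDegree (χ : G → ℂ) : ℤ) ≡ -e [ZMOD p] := by
  obtain ⟨x, hx, hxP⟩ := exists_zpowers_eq_sylow P hP
  obtain ⟨D, hD⟩ := exists_b0Data_block hp2 P hxP.symm hx hM
  rw [← hxP, centralizer_zpowers, D.he] at he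
  rw [hD] at hχ
  rcases hχ with h | h
  · have := D.degX χ h
    rcases D.sign χ h with h1 | h1 <;> rw [h1] at this
    · exact Or.inl this
    · exact Or.inr (Or.inl this)
  · have := D.modY
    rw [← Block.charDegree_eq_of_eq (D.degY χ h), he] at this
    rcases D.signY with h1 | h1 <;> rw [h1] at this
    · exact Or.inr (Or.inr (Or.inl (by simpa using this)))
    · exact Or.inr (Or.inr (Or.inr (by simpa using this)))

omit [Finite G] in
/-- refine a membership test at one prime -/
theorem Admits.refine {A : ℕ → ℕ → ℕ → Bool} (hA : Admits G A) (r : ℕ) (f : ℕ → Bool)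
    (h : ∀ M : Ideal AlgInt, IsPModular r M → ∀ χ ∈ principalBlock M G, χ ≠ irrOne G →
      f (charDegree (χ : G → ℂ)) = true) :
    Admits G fun q b d => A q b d && (!(q == r) || f d) := by
  intro q _ M hM hq χ hχ h1
  simp only [Bool.and_eq_true, Bool.or_eq_true, Bool.not_eq_true', beq_eq_false_iff_ne]
  refine ⟨hA q M hM hq χ hχ h1, ?_⟩
  by_cases h2 : q = r
  · subst h2; exact Or.inr (h M hM χ hχ h1)
  · exact Or.inl h2

end Cfsg.Agent.Small
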