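import Mathlib
import Cfsg.Agent.Small.SieveBase

/-!
A group acting faithfully on fewer than `p²` Sylow `p`-subgroups has Sylow subgroups of order `p`.
-/

set_option autoImplicit false
set_option linter.style.haveILetI false
set_option linter.unusedSectionVars false

namespace Cfsg.Agent.Small

open Subgroup MulAction

variable {G : Type*} [Group G] [Finite G] {p : ℕ} [hp : Fact p.Prime]

theorem smul_eq_iff_mem_of_mem {R Q : Sylow p G} {g : G} (hg : g ∈ (R : Subgroup G)) :
    g • Q = Q ↔ g ∈ (Q : Subgroup G) := by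
  rw [Sylow.smul_eq_iff_mem_normalizer]
  constructor
  · intro h
    have : g ∈ (R : Subgroup G) ⊓ normalizer (Q : Set G) := ⟨hg, h⟩
    rw [R.2.inf_normalizer_sylow] at this
    exact this.2
  · exact fun h => le_normalizer h

theorem card_orbit_sylow (R Q : Sylow p G) : Nat.card (orbit (R : Subgroup G) Q) =
    ((Q : Subgroup G).subgroupOf (R : Subgroup G)).index := by
  rw [Nat.card_coe_set_eq, ← index_stabilizer]
  congr 1
  ext g
  rw [mem_stabilizer_iff, mem_subgroupOf]
  exact smul_eq_iff_mem_of_mem g.2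

theorem index_eq_of_few (h : Nat.card (Sylow p G) < p ^ 2) {R Q : Sylow p G} (hRQ : R ≠ Q) :
    ((Q : Subgroup G).subgroupOf (R : Subgroup G)).index = p := by
  obtain ⟨k, hk⟩ := R.2.index ((Q : Subgroup G).subgroupOf (R : Subgroup G))
  have h1 : p ^ k < p ^ 2 := by
    rw [← hk, ← card_orbit_sylow]
    exact lt_of_le_of_lt (Nat.card_le_card_of_injective _ Subtype.val_injective) h
  have h2 := (Nat.pow_lt_pow_iff_right hp.out.one_lt).1 h1
  have h3 : k ≠ 0 := by
    rintro rfl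
    rw [pow_zero, index_eq_one, subgroupOf_eq_top] at hk
    exact hRQ (Sylow.ext (R.is_maximal' Q.isPGroup' hk).symm)
  obtain rfl : k = 1 := by omega
  simpa using hk

theorem normal_of_few (h : Nat.card (Sylow p G) < p ^ 2) {R Q : Sylow p G} (hRQ : R ≠ Q) :
    ((Q : Subgroup G).subgroupOf (R : Subgroup G)).Normal := by
  have h1 := index_eq_of_few h hRQ
  obtain ⟨k, hk⟩ := R.2.exists_card_eq
  refine normal_of_index_eq_minFac_card ?_
  rw [h1, hk, hp.out.pow_minFac]
  rintro rfl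
  have := ((Q : Subgroup G).subgroupOf (R : Subgroup G)).index_dvd_card
  rw [h1, hk, pow_zero, Nat.dvd_one] at this
  exact hp.out.ne_one this

theorem card_sylow_eq_prime_of_few (hf : ∀ g : G, (∀ R : Sylow p G, g • R = R) → g = 1)
    (h1 : Nat.card (Sylow p G) ≠ 1) (h : Nat.card (Sylow p G) < p ^ 2) (P : Sylow p G) :
    Nat.card (P : Subgroup G) = p := by
  classical
  have hone : ∀ (R : Sylow p G) (g : G), g ∈ (R : Subgroup G) →
      (∀ Q, R ≠ Q → g ∈ (Q : Subgroup G)) → g = 1 := by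
    intro R g hg h2
    refine hf g fun Q => (smul_eq_iff_mem_of_mem hg).2 ?_
    by_cases h3 : R = Q
    · exact h3 ▸ hg
    · exact h2 Q h3
  have hpow : ∀ (R : Sylow p G) (g : G), g ∈ (R : Subgroup G) → g ^ p = 1 := by
    intro R g hg
    refine hone R _ (pow_mem hg p) fun Q hQ => ?_
    haveI := normal_of_few h hQ
    have := ((Q : Subgroup G).subgroupOf (R : Subgroup G)).pow_index_mem ⟨g, hg⟩
    rwa [index_eq_of_few h hQ] at this
  have hcomm : ∀ (R : Sylow p G) (a b : G), a ∈ (R : Subgroup G) → b ∈ (R : Subgroup G) →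
      a * b = b * a := by
    intro R a b ha hb
    have : a * b * a⁻¹ * b⁻¹ = 1 := by
      refine hone R _ (mul_mem (mul_mem (mul_mem ha hb) (inv_mem ha)) (inv_mem hb)) fun Q hQ => ?_
      haveI := normal_of_few h hQ
      have hc : IsCyclic ((R : Subgroup G) ⧸ (Q : Subgroup G).subgroupOf (R : Subgroup G)) :=
        isCyclic_of_prime_card (p := p) (index_eq_of_few h hQ)
      have h2 : (⟨a, ha⟩ * ⟨b, hb⟩ * ⟨a, ha⟩⁻¹ * ⟨b, hb⟩⁻¹ : (R : Subgroup G)) ∈
          (Q : Subgroup G).subgroupOf (R : Subgroup G) := by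
        rw [← QuotientGroup.eq_one_iff]
        simp only [QuotientGroup.mk_mul, QuotientGroup.mk_inv]
        rw [hc.isMulCommutative.is_comm.comm (QuotientGroup.mk _) (QuotientGroup.mk _)]
        group
      exact h2
    calc a * b = a * b * a⁻¹ * b⁻¹ * (b * a) := by group
      _ = b * a := by rw [this, one_mul]
  obtain ⟨Q₀, hQ₀⟩ : ∃ Q : Sylow p G, P ≠ Q := by
    by_contra h2
    push Not at h2
    exact h1 (Nat.card_eq_one_iff_exists.2 ⟨P, fun Q => (h2 Q).symm⟩)
  set D : Subgroup G := (P : Subgroup G) ⊓ Q₀ with hD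
  by_contra hne
  have hD0 : D ≠ ⊥ := by
    intro h2
    have h3 := ((Q₀ : Subgroup G).subgroupOf (P : Subgroup G)).index_mul_card
    rw [index_eq_of_few h hQ₀, ← inf_subgroupOf_left, ← hD, h2, bot_subgroupOf, card_bot,
      mul_one] at h3
    exact hne h3.symm
  obtain ⟨α, hα⟩ : ∃ α : Sylow p G, ¬ D ≤ α := by
    by_contra h2
    push Not at h2
    exact hD0 (eq_bot_iff.2 fun g hg => hone P g hg.1 fun Q _ => h2 Q hg)
  have hDp : IsPGroup p D := P.2.to_le inf_le_left
  -- the group `A`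
  let A : Subgroup G :=
    { carrier := {g | (∀ d ∈ D, g * d = d * g) ∧
        ∀ β : Sylow p G, ¬ D ≤ β → ∃ d ∈ D, g • β = d • β}
      one_mem' := ⟨fun d _ => by simp, fun β _ => ⟨1, one_mem _, rfl⟩⟩
      mul_mem' := by
        rintro g k ⟨hg1, hg2⟩ ⟨hk1, hk2⟩
        refine ⟨fun d hd => by rw [mul_assoc, hk1 d hd, ← mul_assoc, hg1 d hd, mul_assoc],
          fun β hβ => ?_⟩
        obtain ⟨d, hd, e1⟩ := hg2 β hβ
        obtain ⟨d', hd', e2⟩ := hk2 β hβ
        exact ⟨d' * d, mul_mem hd' hd, by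
          rw [mul_smul, e2, ← mul_smul, hg1 d' hd', mul_smul, e1, mul_smul]⟩
      inv_mem' := by
        rintro g ⟨hg1, hg2⟩
        refine ⟨fun d hd => (show Commute g d from hg1 d hd).inv_left, fun β hβ => ?_⟩
        obtain ⟨d, hd, e1⟩ := hg2 β hβ
        refine ⟨d⁻¹, inv_mem hd, ?_⟩
        rw [inv_smul_eq_iff, ← mul_smul, hg1 _ (inv_mem hd), mul_smul, e1, inv_smul_smul] }
  have hRA : ∀ R : Sylow p G, D ≤ R → (R : Subgroup G) ≤ A := by
    intro R hR g hg
    refine ⟨fun d hd => hcomm R g d hg (hR hd), fun β hβ => ?_⟩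
    have hRβ : R ≠ β := fun h => hβ (h ▸ hR)
    haveI := normal_of_few h hRβ
    have h2 : D.subgroupOf R ⊔ (β : Subgroup G).subgroupOf (R : Subgroup G) = ⊤ := by
      have h3 := index_dvd_of_le
        (le_sup_right : _ ≤ D.subgroupOf R ⊔ (β : Subgroup G).subgroupOf (R : Subgroup G))
      rw [index_eq_of_few h hRβ] at h3
      rcases (Nat.dvd_prime hp.out).1 h3 with h4 | h4
      · exact index_eq_one.1 h4
      · exfalso
        have h5 := eq_of_le_of_card_ge
          (le_sup_right : _ ≤ D.subgroupOf R ⊔ (β : Subgroup G).subgroupOf (R : Subgroup G)) (by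
            have e1 := (D.subgroupOf R ⊔
              (β : Subgroup G).subgroupOf (R : Subgroup G)).index_mul_card
            have e2 := ((β : Subgroup G).subgroupOf (R : Subgroup G)).index_mul_card
            rw [h4] at e1
            rw [index_eq_of_few h hRβ, ← e1] at e2
            exact (Nat.eq_of_mul_eq_mul_left hp.out.pos e2).ge)
        refine hβ fun d hd => ?_
        have : (⟨d, hR hd⟩ : (R : Subgroup G)) ∈ (β : Subgroup G).subgroupOf (R : Subgroup G) := by
          rw [h5]; exact mem_sup_left hd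
        exact this
    have h3 : (⟨g, hg⟩ : (R : Subgroup G)) ∈
        D.subgroupOf R ⊔ (β : Subgroup G).subgroupOf (R : Subgroup G) := h2 ▸ mem_top _
    obtain ⟨d, hd, y, hy, e⟩ := mem_sup_of_normal_right.1 h3
    refine ⟨d, hd, ?_⟩
    have : g = d * y := (congrArg Subtype.val e).symm
    rw [this, mul_smul, (smul_eq_iff_mem_of_mem y.2).2 hy]
  let L : Subgroup A :=
    { carrier := {g | ∀ β : Sylow p G, ¬ D ≤ β → (g : G) • β = β}
      one_mem' := fun β _ => one_smul _ _
      mul_mem' := fun {g k} hg hk β hβ => by rw [coe_mul, mul_smul, hk β hβ, hg β hβ]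
      inv_mem' := fun {g} hg β hβ => by rw [coe_inv, inv_smul_eq_iff, hg β hβ] }
  haveI hL : L.Normal := ⟨fun g hg k β hβ => by
    obtain ⟨d, hd, e⟩ := (k⁻¹).2.2 β hβ
    rw [coe_mul, coe_mul, mul_smul, mul_smul, e, ← mul_smul (g : G), g.2.1 d hd, mul_smul, hg β hβ,
      ← e, coe_inv, smul_inv_smul]⟩
  have hAL : IsPGroup p (A ⧸ L) := by
    intro g
    obtain ⟨g, rfl⟩ := QuotientGroup.mk_surjective g
    refine ⟨1, ?_⟩
    rw [pow_one, ← QuotientGroup.mk_pow, QuotientGroup.eq_one_iff]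
    intro β hβ
    obtain ⟨d, hd, e⟩ := g.2.2 β hβ
    have : ∀ n : ℕ, (g : G) ^ n • β = d ^ n • β := by
      intro n
      induction n with
      | zero => simp
      | succ n ih =>
        rw [pow_succ', mul_smul, ih, ← mul_smul, g.2.1 _ (pow_mem hd n), mul_smul, e, ← mul_smul,
          pow_succ]
    rw [coe_pow, this, hpow P d hd.1, one_smul]
  have hPA := hRA P inf_le_left
  have hsup : L ⊔ (P.subtype hPA : Subgroup A) = ⊤ := by
    obtain ⟨k, hk⟩ := hAL.exists_card_eq
    have h2 := index_dvd_of_le (le_sup_left : L ≤ L ⊔ (P.subtype hPA : Subgroup A))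
    have h3 := index_dvd_of_le (le_sup_right : _ ≤ L ⊔ (P.subtype hPA : Subgroup A))
    rw [index_eq_card L, hk] at h2
    obtain ⟨j, -, hj⟩ := (Nat.dvd_prime_pow hp.out).1 h2
    rw [← index_eq_one, hj]
    rcases j with _ | j
    · simp
    · rw [hj] at h3
      exact absurd ((dvd_pow_self p (by omega)).trans h3) (P.subtype hPA).not_dvd_index
  have htr : ∀ R : Sylow p G, D ≤ R → ∃ l : G, l • P = R ∧ ∀ β : Sylow p G, ¬ D ≤ β → l • β = β := by
    intro R hR
    obtain ⟨g, hg⟩ := exists_smul_eq A (P.subtype hPA) (R.subtype (hRA R hR))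
    rw [Sylow.smul_subtype] at hg
    have hg' : (g : G) • P = R := Sylow.subtype_injective hg
    obtain ⟨l, hl, y, hy, e⟩ := mem_sup_of_normal_left.1 (hsup ▸ mem_top g)
    refine ⟨l, ?_, hl⟩
    rw [← hg', ← e, coe_mul, mul_smul, (smul_eq_iff_mem_of_mem (R := P) (g := y) hy).2 hy]
  have hF : Nat.card {R : Sylow p G // D ≤ R} ≡ 1 [MOD p] := by
    have := (hDp.card_modEq_card_fixedPoints (Sylow p G)).symm.trans (card_sylow_modEq_one p G)
    rwa [Nat.card_congr (Equiv.subtypeEquivRight fun R => hDp.sylow_mem_fixedPoints_iff)] at this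
  by_cases hc : ∃ R : Sylow p G, D ≤ R ∧ ∃ a ∈ (α : Subgroup G), ¬ D ≤ (a • R : Sylow p G)
  · obtain ⟨R, hR, a, ha, hβ⟩ := hc
    have hαR : α ≠ R := fun h => hα (h ▸ hR)
    have h2 : ∀ R' : Sylow p G, D ≤ R' → R' ∈ orbit (α : Subgroup G) R := by
      intro R' hR'
      obtain ⟨l, e1, hl⟩ := htr R hR
      obtain ⟨l', e2, hl'⟩ := htr R' hR'
      have e3 : (l' * l⁻¹) • R = R' := by rw [mul_smul, ← e1, inv_smul_smul, e2]
      have hm : ∀ β : Sylow p G, ¬ D ≤ β → (l' * l⁻¹) • β = β := fun β hβ => by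
        rw [mul_smul, inv_smul_eq_iff.2 (hl β hβ).symm, hl' β hβ]
      set m := l' * l⁻¹
      have h3 : m * a * m⁻¹ ∈ (α : Subgroup G) :=
        (mem_normalizer_iff.1 (Sylow.smul_eq_iff_mem_normalizer.1 (hm α hα)) a).1 ha
      refine ⟨⟨(m * a * m⁻¹)⁻¹ * a, mul_mem (inv_mem h3) ha⟩, ?_⟩
      change ((m * a * m⁻¹)⁻¹ * a) • R = R'
      rw [mul_smul, inv_smul_eq_iff, ← e3, mul_smul, inv_smul_smul, mul_smul, hm _ hβ]
    have h3 : Nat.card {R : Sylow p G // D ≤ R} ≤ p := by
      refine le_of_le_of_eq ?_ ((card_orbit_sylow α R).trans (index_eq_of_few h hαR))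
      exact Nat.card_le_card_of_injective (fun R' => ⟨R'.1, h2 _ R'.2⟩)
        fun _ _ e => Subtype.ext (Subtype.mk.inj e)
    have h4 : 1 < Nat.card {R : Sylow p G // D ≤ R} := by
      rw [Finite.one_lt_card_iff_nontrivial]
      exact ⟨⟨P, inf_le_left⟩, ⟨Q₀, inf_le_right⟩, fun e => hQ₀ (congrArg Subtype.val e)⟩
    have h5 := (Nat.modEq_iff_dvd' h4.le).1 hF.symm
    have := Nat.le_of_dvd (by omega) h5
    omega
  · push Not at hc
    let S : SubMulAction (α : Subgroup G) (Sylow p G) := ⟨{R | D ≤ R}, fun a R hR => hc R hR a a.2⟩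
    obtain ⟨R, hR⟩ := α.2.nonempty_fixed_point_of_prime_not_dvd_card S (fun h2 => by
      have h3 : p ∣ Nat.card {R : Sylow p G // D ≤ R} := h2
      have := (Nat.modEq_zero_iff_dvd.2 h3).symm.trans hF
      exact hp.out.one_lt.ne' (Nat.dvd_one.1 ((Nat.modEq_iff_dvd' zero_le_one).1 this)))
    have h2 : (α : Subgroup G) ≤ (R : Sylow p G) := fun a ha =>
      (smul_eq_iff_mem_of_mem ha).1 (congrArg Subtype.val (hR ⟨a, ha⟩))
    exact hα ((α.is_maximal' (R : Sylow p G).isPGroup' h2) ▸ R.2)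

theorem card_sylow_eq_prime_of_simple [IsSimpleGroup G]
    (h1 : Nat.card (Sylow p G) ≠ 1) (h : Nat.card (Sylow p G) < p ^ 2) (P : Sylow p G) :
    Nat.card (P : Subgroup G) = p := by
  refine card_sylow_eq_prime_of_few (fun g hg => ?_) h1 h P
  obtain ⟨Q, hQ⟩ : ∃ Q : Sylow p G, Q ≠ P := by
    by_contra h2
    push Not at h2
    exact h1 (Nat.card_eq_one_iff_exists.2 ⟨P, h2⟩)
  obtain ⟨a, rfl⟩ := exists_smul_eq G P Q
  exact toPermHom_injective_of_ne hQ (by ext R; simp [hg R])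

end Cfsg.Agent.Small
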