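import Mathlib

/-!
Arithmetic for the theorem of Brauer and Tuan on simple groups of order `p * q ^ b * g₀`.
-/

set_option autoImplicit false

namespace Cfsg.Agent.Small.BTuan

theorem pow_two_mod {k : ℕ} (hk : 0 < k) (s : ℕ) :
    ∃ j < k, ((2 : ℤ) ^ k + 1 ∣ 2 ^ s - 2 ^ j) ∨ ((2 : ℤ) ^ k + 1 ∣ 2 ^ s + 2 ^ j) := by
  induction s with
  | zero => exact ⟨0, hk, Or.inl (by simp)⟩
  | succ s ih =>
    obtain ⟨j, hj, h⟩ := ih
    by_cases e : j + 1 = k
    · refine ⟨0, hk, ?_⟩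
      rcases h with ⟨r, h⟩ | ⟨r, h⟩
      · right
        refine ⟨2 * r + 1, ?_⟩
        rw [← e] at h ⊢
        rw [pow_succ, pow_succ] at *
        linear_combination 2 * h
      · left
        refine ⟨2 * r - 1, ?_⟩
        rw [← e] at h ⊢
        rw [pow_succ, pow_succ] at *
        linear_combination 2 * h
    · refine ⟨j + 1, by omega, ?_⟩
      rcases h with ⟨r, h⟩ | ⟨r, h⟩
      · left; exact ⟨2 * r, by rw [pow_succ, pow_succ]; linear_combination 2 * h⟩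
      · right; exact ⟨2 * r, by rw [pow_succ, pow_succ]; linear_combination 2 * h⟩

theorem deg_dichot {c b D : ℕ} (hc : 2 ≤ c) (hD : D ∣ 2 ^ b * (2 ^ c + 1))
    (hm : ((2 : ℤ) ^ (c + 1) + 1 ∣ D - 1) ∨ ((2 : ℤ) ^ (c + 1) + 1 ∣ D + 1)) :
    (∃ s, D = 2 ^ s) ∨ 2 ^ c + 1 ∣ D := by
  have hD0 : D ≠ 0 := by
    rintro rfl
    have := Nat.eq_zero_of_zero_dvd hD
    have : 0 < 2 ^ b * (2 ^ c + 1) := by positivity
    omega
  obtain ⟨s, w, hw, rfl⟩ := Nat.exists_eq_pow_mul_and_not_dvd hD0 2 (by norm_num)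
  have hwd : w ∣ 2 ^ c + 1 := by
    refine Nat.Coprime.dvd_of_dvd_mul_left (m := 2 ^ b) ?_ ((Dvd.intro_left _ rfl).trans hD)
    exact Nat.Coprime.pow_right _ ((Nat.Prime.coprime_iff_not_dvd Nat.prime_two).2 hw).symm
  obtain ⟨w', hw'⟩ := hwd
  obtain ⟨c', rfl⟩ : ∃ c', c = c' + 2 := ⟨c - 2, by omega⟩
  have hw'odd : w' % 2 = 1 := by
    by_contra h
    have : 2 ∣ w * w' := Dvd.dvd.mul_left (by omega) _
    rw [← hw', pow_add] at this
    omega
  have hw'le : w' ≤ 2 ^ (c' + 2) + 1 := Nat.le_of_dvd (by positivity) ⟨w, by rw [hw', mul_comm]⟩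
  obtain ⟨j, hj, h⟩ := pow_two_mod (k := c' + 2 + 1) (by omega) s
  have hz : (w : ℤ) * w' = 2 ^ (c' + 2) + 1 := by exact_mod_cast hw'.symm
  have key : ((2 : ℤ) ^ (c' + 2 + 1) + 1 ∣ 2 * w' - 2 ^ j) ∨
      ((2 : ℤ) ^ (c' + 2 + 1) + 1 ∣ 2 * w' + 2 ^ j) := by
    push_cast at hm
    rcases hm with ⟨r, hm⟩ | ⟨r, hm⟩ <;> rcases h with ⟨u, h⟩ | ⟨u, h⟩
    · left
      exact ⟨2 ^ s + u - 2 * w' * r, by
        rw [pow_succ] at *; linear_combination h - 2 * w' * hm + 2 * 2 ^ s * hz⟩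
    · right
      exact ⟨2 ^ s + u - 2 * w' * r, by
        rw [pow_succ] at *; linear_combination h - 2 * w' * hm + 2 * 2 ^ s * hz⟩
    · right
      exact ⟨2 * w' * r - 2 ^ s - u, by
        rw [pow_succ] at *; linear_combination 2 * w' * hm - h - 2 * 2 ^ s * hz⟩
    · left
      exact ⟨2 * w' * r - 2 ^ s - u, by
        rw [pow_succ] at *; linear_combination 2 * w' * hm - h - 2 * 2 ^ s * hz⟩
  have hj2 : (2 : ℤ) ^ j ≤ 2 ^ (c' + 2) := pow_le_pow_right₀ (by norm_num) (by omega)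
  have hj0 : (0 : ℤ) < 2 ^ j := by positivity
  have hw1 : (w' : ℤ) ≤ 2 ^ (c' + 2) + 1 := by exact_mod_cast hw'le
  have hc0 : (0 : ℤ) < 2 ^ c' := by positivity
  have hE : (2 : ℤ) ^ (c' + 2) = 4 * 2 ^ c' := by ring
  have hE' : (2 : ℤ) ^ (c' + 2 + 1) = 8 * 2 ^ c' := by ring
  have hpar : j = 0 ∨ ∃ z : ℤ, (2 : ℤ) ^ j = 2 * z ∧ (z = 1 ∨ z % 2 = 0) := by
    rcases j with _ | _ | j
    · exact Or.inl rfl
    · exact Or.inr ⟨1, by norm_num, Or.inl rfl⟩
    · exact Or.inr ⟨2 ^ (j + 1), by ring, Or.inr (by rw [pow_succ]; omega)⟩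
  have fin : w' = 1 ∨ w' = 2 ^ (c' + 2) + 1 := by
    have hcast : ((2 ^ (c' + 2) + 1 : ℕ) : ℤ) = 4 * 2 ^ c' + 1 := by push_cast; ring
    rw [hE'] at key
    rw [hE] at hj2 hw1
    generalize (2 : ℤ) ^ c' = y at *
    rcases key with ⟨r, h⟩ | ⟨r, h⟩
    · have hr : r = 0 ∨ r = 1 := by
        have h1 : -1 < r := by nlinarith
        have h2 : r < 2 := by nlinarith
        omega
      rcases hr with rfl | rfl <;> rcases hpar with rfl | ⟨z, hz1, hz2⟩ <;> omega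
    · have hr : r = 1 := by
        have h1 : 0 < r := by nlinarith
        have h2 : r < 2 := by nlinarith
        omega
      subst hr
      rcases hpar with rfl | ⟨z, hz1, hz2⟩ <;> omega
  rcases fin with rfl | h1
  · right
    rw [mul_one] at hw'
    exact hw' ▸ Dvd.intro_left _ rfl
  · left
    refine ⟨s, ?_⟩
    rw [h1] at hw'
    have : w = 1 := by
      have h0 : 0 < 2 ^ (c' + 2) + 1 := by positivity
      exact Nat.eq_of_mul_eq_mul_right h0 (by rw [← hw', one_mul])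
    rw [this, mul_one]

theorem pow_eq_of_neg_one {k b : ℕ} (hk : 0 < k) (h : (2 : ℤ) ^ k + 1 ∣ 2 ^ b + 1)
    (hlt : 2 ^ b < (2 ^ k) ^ 3) : b = k := by
  rw [← pow_mul] at hlt
  have hb : b < k * 3 := (Nat.pow_lt_pow_iff_right (by norm_num)).1 hlt
  obtain ⟨i, j, hj, rfl⟩ : ∃ i j, j < k ∧ b = k * i + j :=
    ⟨b / k, b % k, Nat.mod_lt _ hk, (Nat.div_add_mod b k).symm⟩
  have hi : i < 3 := by
    by_contra hh
    have : k * 3 ≤ k * i := Nat.mul_le_mul_left _ (by omega)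
    omega
  have hj2 : (2 : ℤ) ^ j < 2 ^ k := pow_lt_pow_right₀ (by norm_num) hj
  have hj0 : (0 : ℤ) < 2 ^ j := by positivity
  rw [pow_add, pow_mul] at h
  generalize (2 : ℤ) ^ k = N at *
  interval_cases i
  · have := Int.le_of_dvd (by positivity) h
    simp at this; omega
  · obtain ⟨r, hr⟩ := h
    have h1 : N + 1 ∣ 2 ^ j - 1 := ⟨2 ^ j - r, by linear_combination -hr⟩
    have h2 : (2 : ℤ) ^ j - 1 = 0 := Int.eq_zero_of_dvd_of_nonneg_of_lt (by omega) (by omega) h1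
    have : j = 0 := by
      by_contra hj0
      have : (2 : ℤ) ^ 1 ≤ 2 ^ j := pow_le_pow_right₀ (by norm_num) (by omega)
      omega
    omega
  · obtain ⟨r, hr⟩ := h
    have h1 : N + 1 ∣ 2 ^ j + 1 := ⟨r - (N - 1) * 2 ^ j, by linear_combination hr⟩
    have := Int.le_of_dvd (by positivity) h1
    omega

theorem psl_arith {p q b g : ℕ} (hp : p.Prime) (hp3 : 3 ≤ p) (hq : q.Prime) (hg : g < p - 1)
    (h : 2 * (q ^ b * g) = p ^ 2 - 1) : ∃ m, p = 2 ^ m + 1 ∨ p = 2 ^ m - 1 := by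
  obtain ⟨u, rfl⟩ : ∃ u, p = 2 * u + 1 := hp.odd_of_ne_two (by omega)
  have h1 : q ^ b * g = 2 * (u * (u + 1)) := by
    have : (2 * u + 1) ^ 2 = 4 * (u * (u + 1)) + 1 := by ring
    omega
  have hu : 0 < u := by omega
  have hlt : u + 1 < q ^ b := by
    by_contra hh
    have : q ^ b * g ≤ (u + 1) * g := Nat.mul_le_mul_right _ (by omega)
    have : (u + 1) * g < (u + 1) * (2 * u) := Nat.mul_lt_mul_of_pos_left (by omega) (by omega)
    nlinarith
  have split : ∀ n, q ^ n ∣ u * (u + 1) → q ^ n ∣ u ∨ q ^ n ∣ u + 1 := by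
    intro n hn
    by_cases hqu : q ∣ u
    · left
      refine Nat.Coprime.dvd_of_dvd_mul_right (Nat.Coprime.pow_left _ ?_) hn
      rw [Nat.Prime.coprime_iff_not_dvd hq]
      intro h'
      exact hq.one_lt.ne' (Nat.dvd_one.1 ((Nat.dvd_add_right hqu).1 h'))
    · right
      exact Nat.Coprime.dvd_of_dvd_mul_left
        (Nat.Coprime.pow_left _ ((Nat.Prime.coprime_iff_not_dvd hq).2 hqu)) hn
  by_cases hq2 : q = 2
  · subst hq2
    obtain ⟨n, rfl⟩ : ∃ n, b = n + 1 := ⟨b - 1, by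
      rcases b with _ | b
      · simp at hlt
      · rfl⟩
    have h2 : 2 ^ n ∣ u * (u + 1) := ⟨g, by rw [pow_succ] at h1; nlinarith⟩
    rw [pow_succ] at hlt
    rcases split n h2 with ⟨r, hr⟩ | ⟨r, hr⟩
    · have : r = 1 := by
        rcases r with _ | _ | r
        · omega
        · rfl
        · nlinarith [Nat.zero_le (2 ^ n * r)]
      exact ⟨n + 1, Or.inl (by rw [pow_succ, hr, this]; ring)⟩
    · have : r = 1 := by
        rcases r with _ | _ | r
        · omega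
        · rfl
        · nlinarith [Nat.zero_le (2 ^ n * r)]
      rw [this, mul_one] at hr
      exact ⟨n + 1, Or.inr (by rw [pow_succ]; omega)⟩
  · exfalso
    have h2 : q ^ b ∣ u * (u + 1) := by
      refine Nat.Coprime.dvd_of_dvd_mul_left (m := 2) ?_ ⟨g, h1.symm⟩
      exact Nat.Coprime.pow_left _ ((Nat.coprime_primes hq Nat.prime_two).2 hq2)
    rcases split b h2 with h3 | h3
    · have := Nat.le_of_dvd hu h3; omega
    · have := Nat.le_of_dvd (by omega) h3; omega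

end Cfsg.Agent.Small.BTuan
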