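import Mathlib
import Cfsg.Agent.Small.DegData
import Cfsg.Agent.Small.BTuanArith
import Cfsg.Agent.Char.BrauerReynoldsMain
import Cfsg.Agent.S4503
import Cfsg.Agent.S4504

/-!
The theorem of Brauer and Tuan on simple groups of order `p * q ^ b * g₀`, `g₀ < p - 1`.
-/

set_option autoImplicit false
set_option linter.style.haveILetI false
set_option linter.unusedSectionVars false

namespace Cfsg.Agent.Small.BTuan

open Subgroup Cfsg.Agent.Grp Cfsg.Agent.Grp.SelfCent Cfsg.Agent.Char Cfsg.Agent.Char.SelfC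
open Cfsg.Agent.Block MatrixGroups

variable {G : Type*} [Group G] [Finite G] {p : ℕ} [hp : Fact p.Prime] {x : G}

theorem abs_sum_le (D : B0Data p x) (S : Finset (IrrCharacter G)) (hS : S ⊆ D.X) :
    (∑ χ ∈ S, D.ε χ * charDegree (χ : G → ℂ)) ^ 2 ≤ D.e * (Nat.card G : ℤ) := by
  have h1 := sq_sum_le_card_mul_sum_sq (s := S) (f := fun χ => D.ε χ * charDegree (χ : G → ℂ))
  have h2 : ∑ χ ∈ S, (D.ε χ * charDegree (χ : G → ℂ)) ^ 2 =
      ((∑ χ ∈ S, charDegree (χ : G → ℂ) ^ 2 : ℕ) : ℤ) := by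
    push_cast
    refine Finset.sum_congr rfl fun χ hχ => ?_
    rcases D.sign χ (hS hχ) with h | h <;> rw [h] <;> ring
  have h3 : ((∑ χ ∈ S, charDegree (χ : G → ℂ) ^ 2 : ℕ) : ℤ) ≤ Nat.card G := by
    exact_mod_cast sum_sq_le S
  have h4 : (S.card : ℤ) ≤ D.e := by
    rw [← D.cardX]; exact_mod_cast Finset.card_le_card hS
  rw [h2] at h1
  refine h1.trans (mul_le_mul h4 h3 (by positivity) (by positivity))

theorem size_bound {m e σ : ℤ} (h5 : 4 ≤ e) (hle : m ≤ |σ + (e + 1)|)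
    (hσ2 : σ ^ 2 ≤ e * ((2 * e + 1) * (m * (e + 1)))) : m < (2 * e) ^ 3 := by
  by_contra hh
  push Not at hh
  have h8 : m - (e + 1) ≤ |σ| := by
    have := abs_add_le σ (e + 1)
    rw [abs_of_pos (by omega : 0 < e + 1)] at this
    omega
  have e2 : 16 ≤ e ^ 2 := by nlinarith
  have e3 : 4 * e ^ 2 ≤ e ^ 3 := by nlinarith
  have e4 : 4 * e ≤ e ^ 2 := by nlinarith
  have e5 : (2 * e) ^ 3 = 8 * e ^ 3 := by ring
  have h9 : 0 ≤ m - (e + 1) := by omega
  have h10 : (m - (e + 1)) ^ 2 ≤ σ ^ 2 := by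
    rw [← sq_abs σ]; exact pow_le_pow_left₀ h9 h8 2
  have h11 : 0 < m := by omega
  have h12 : m * (m - 2 * (e + 1)) ≤ m * (e * (2 * e + 1) * (e + 1)) := by
    have : m * (m - 2 * (e + 1)) = (m - (e + 1)) ^ 2 - (e + 1) ^ 2 := by ring
    have h' : m * (e * (2 * e + 1) * (e + 1)) = e * ((2 * e + 1) * (m * (e + 1))) := by ring
    have := sq_nonneg (e + 1)
    omega
  have h13 := le_of_mul_le_mul_left h12 h11
  have e6 : e * (2 * e + 1) * (e + 1) = 2 * e ^ 3 + 3 * e ^ 2 + e := by ring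
  omega

theorem main [IsSimpleGroup G] (hG : ¬ IsMulCommutative G) {q b g : ℕ} (hq : q.Prime)
    (hpq : p ≠ q) (hqg : ¬ q ∣ g) (hcard : Nat.card G = p * (q ^ b * g)) (hg : g < p - 1) :
    Nat.card G < p ^ 3 ∨ Nonempty (G ≃* PSL(2, ZMod p)) := by
  classical
  have hpp := hp.out
  have hg0 : 0 < g := Nat.pos_of_ne_zero (by rintro rfl; simp at hqg)
  have hp3 : 3 ≤ p := by omega
  have hpm : ¬ p ∣ q ^ b * g := by
    intro h
    rcases (Nat.Prime.dvd_mul hpp).1 h with h | h
    · exact hpq ((Nat.prime_dvd_prime_iff_eq hpp hq).1 (hpp.dvd_of_dvd_pow h))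
    · have := Nat.le_of_dvd hg0 h; omega
  by_cases hb : b = 0
  · left
    rw [hcard, hb, pow_zero, one_mul]
    calc p * g < p * p := Nat.mul_lt_mul_of_pos_left (by omega) hpp.pos
      _ ≤ p * p * p := Nat.le_mul_of_pos_right _ hpp.pos
      _ = p ^ 3 := by ring
  have hperf := commutator_eq_top hG
  obtain ⟨x, hx⟩ := exists_prime_orderOf_dvd_card' (G := G) p ⟨_, hcard⟩
  have hc : Nat.card (zpowers x) = p := by rw [Nat.card_zpowers, hx]
  have hidx : (zpowers x).index = q ^ b * g := by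
    have := (zpowers x).card_mul_index
    rw [hc, hcard] at this
    exact Nat.eq_of_mul_eq_mul_left hpp.pos this
  have hpg : IsPGroup p (zpowers x) := IsPGroup.of_card (n := 1) (by rw [hc, pow_one])
  let P : Sylow p G := hpg.toSylow (by rw [hidx]; exact hpm)
  have hP : (P : Subgroup G) = zpowers x := rfl
  obtain ⟨M, hM⟩ := exists_isPModular hpp
  obtain ⟨D, hD, h1⟩ := exists_b0Data_norm hperf (by omega) P hP hx hM
  have hxC : zpowers x ≤ centralizer ({x} : Set G) :=
    zpowers_le.2 (mem_centralizer_singleton_iff.2 rfl)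
  have hCi : (centralizer ({x} : Set G)).index ∣ q ^ b * g := hidx ▸ index_dvd_of_le hxC
  -- non-exceptional degrees
  have hXge : ∀ χ ∈ D.X, χ ≠ irrOne G → p - 1 ≤ charDegree (χ : G → ℂ) := by
    intro χ hχ hne
    have h2 := two_le_charDegree hperf hne
    have h3 := (D.degX χ hχ).dvd
    by_contra hlt
    rcases D.sign χ hχ with h | h <;> rw [h] at h3
    · have := Int.le_of_dvd (by omega) ((dvd_neg).2 h3)
      omega
    · have := Int.le_of_dvd (by omega) ((dvd_neg).2 h3)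
      omega
  have hXq : ∀ χ ∈ D.X, χ ≠ irrOne G → q ∣ charDegree (χ : G → ℂ) := by
    intro χ hχ hne
    by_contra h
    have h2 : charDegree (χ : G → ℂ) ∣ g :=
      Nat.Coprime.dvd_of_dvd_mul_left (Nat.Coprime.pow_right _
        ((Nat.Prime.coprime_iff_not_dvd hq).2 h).symm) ((D.dvd_X hx hχ).trans hCi)
    have := Nat.le_of_dvd hg0 h2
    have := hXge χ hχ hne
    omega
  have hsum : ∀ (S : Finset (IrrCharacter G)) (m : ℕ), S ⊆ D.X → irrOne G ∈ S →
      (∀ χ ∈ S, χ ≠ irrOne G → m ∣ charDegree (χ : G → ℂ)) →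
      (m : ℤ) ∣ ∑ χ ∈ S, D.ε χ * charDegree (χ : G → ℂ) - 1 := by
    intro S m _ hS h
    rw [← Finset.add_sum_erase _ _ hS, D.ε_irrOne hx h1,
      charDegree_eq_of_eq (n := 1) (by simp [irrOne_apply])]
    have : (m : ℤ) ∣ ∑ χ ∈ S.erase (irrOne G), D.ε χ * charDegree (χ : G → ℂ) :=
      Finset.dvd_sum fun χ hχ => Dvd.dvd.mul_left (Int.natCast_dvd_natCast.2
        (h χ (Finset.mem_of_mem_erase hχ) (Finset.ne_of_mem_erase hχ))) _
    simpa using this
  have hqd : (q : ℤ) ∣ D.δ * D.d - 1 := by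
    rw [D.deg_eq]; exact hsum _ q subset_rfl h1 hXq
  have hqd' : ¬ q ∣ D.d := by
    intro h
    have h2 : (q : ℤ) ∣ D.δ * D.d := Dvd.dvd.mul_left (Int.natCast_dvd_natCast.2 h) _
    have h3 : (q : ℤ) ∣ 1 := by simpa using dvd_sub h2 hqd
    exact hq.one_lt.ne' (Nat.dvd_one.1 (Int.natCast_dvd_natCast.1 h3))
  have hdg : D.d ∣ g := Nat.Coprime.dvd_of_dvd_mul_left (Nat.Coprime.pow_right _
        ((Nat.Prime.coprime_iff_not_dvd hq).2 hqd').symm) ((D.dvd_Y hx).trans hCi)
  have hdle := Nat.le_of_dvd hg0 hdg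
  obtain ⟨θ, hθ⟩ := D.Y_nonempty
  have hθ1 : θ ≠ irrOne G := fun h => Finset.disjoint_left.1 D.disj h1 (h ▸ hθ)
  have hθd : charDegree (θ : G → ℂ) = D.d := charDegree_eq_of_eq (D.degY θ hθ)
  have hd2 : 2 ≤ D.d := hθd ▸ two_le_charDegree hperf hθ1
  have hCP : centralizer ({x} : Set G) = zpowers x := by
    obtain ⟨c, hc'⟩ := Subgroup.card_dvd_of_le hxC
    rw [hc] at hc'
    by_cases h : c = 1
    · exact (eq_of_le_of_card_ge hxC (by rw [hc', h, hc, mul_one])).symm
    exfalso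
    obtain ⟨r, hr, hrc⟩ := Nat.exists_prime_and_dvd h
    haveI := Fact.mk hr
    obtain ⟨y, hy⟩ := exists_prime_orderOf_dvd_card' (G := centralizer ({x} : Set G)) r
      (hc' ▸ hrc.mul_left p)
    have hy' : orderOf (y : G) = r := by rw [orderOf_coe, hy]
    have := stanton_Y hG D hx h1 y.2 (fun h => hr.ne_one (by rw [← hy', h, orderOf_one])) (by
      rw [hy']
      intro h
      have e := (Nat.prime_dvd_prime_iff_eq hpp hr).1 h
      apply hpm
      have h2 := Subgroup.card_subgroup_dvd_card (centralizer ({x} : Set G))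
      rw [hc', hcard] at h2
      exact (e ▸ hrc).trans (Nat.dvd_of_mul_dvd_mul_left hpp.pos h2))
    omega
  have hYe := D.cardY
  have hYpos := D.card_Y_pos
  have hepos := D.e_pos
  have hele : D.e ≤ p - 1 := by nlinarith
  have hmod := D.modY.dvd
  have hnn : ∀ H : Subgroup G, H.Normal → Nat.card H ≠ p := by
    intro H hH h
    rcases hH.eq_bot_or_eq_top with rfl | rfl
    · simp at h; omega
    · rw [card_top] at h
      exact not_isPGroup hG p (IsPGroup.of_card (n := 1) (by rw [h, pow_one]))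
  have hsq : ¬ p ^ 2 ∣ Nat.card G := by
    rw [hcard, pow_two]
    exact fun h => hpm (Nat.dvd_of_mul_dvd_mul_left hpp.pos h)
  have hfaith : ∀ y : G, (θ : G → ℂ) y = (θ : G → ℂ) 1 → y = 1 := fun y hy => by
    by_contra h; exact apply_ne_of_simple hθ1 h hy
  rcases D.signY with hδ | hδ
  · -- degree `e`
    right
    rw [hδ, one_mul] at hmod
    have hde : D.d = D.e := by
      have := Int.eq_zero_of_abs_lt_dvd hmod (by rw [abs_lt]; constructor <;> omega)
      omega
    have h3 := S4503.result p hpp ⟨_, hcard⟩ hsq hnn θ θ.2.isCharacter hfaith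
    have hY2 : 2 ≤ D.Y.card := by
      by_contra h
      have : D.Y.card = 1 := by omega
      rw [this] at hYe
      omega
    have h4 : 2 * D.e ≤ p - 1 := by nlinarith
    obtain ⟨e⟩ := S4504.result p hpp ⟨_, hcard⟩ hsq hnn θ θ.2.isCharacter hfaith (by omega)
    exact ⟨((QuotientGroup.quotientBot.symm).trans
      (QuotientGroup.quotientMulEquivOfEq (center_eq_bot hG).symm)).trans e⟩
  left
  rw [hδ] at hmod hqd
  have hde : D.d + D.e = p := by
    have h2 : (p : ℤ) ∣ (D.d + D.e - p : ℤ) := by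
      obtain ⟨r, hr⟩ := (dvd_neg.2 hmod).sub (dvd_refl (p : ℤ))
      exact ⟨r, by linear_combination hr⟩
    have := Int.eq_zero_of_abs_lt_dvd h2 (by rw [abs_lt]; constructor <;> omega)
    omega
  have hY2 : 2 ≤ D.Y.card := by
    by_contra h
    have : D.Y.card = 1 := by omega
    rw [this] at hYe
    omega
  have h4 : 2 * D.e ≤ p - 1 := by nlinarith
  have hgd : g = D.d := by
    obtain ⟨r, hr⟩ := hdg
    rcases r with _ | _ | r
    · omega
    · omega
    · have : D.d * (r + 1 + 1) = D.d * r + 2 * D.d := by ring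
      omega
  have hCi' : q ^ b * D.d = D.e * (normalizer ((zpowers x : Subgroup G) : Set G)).index := by
    rw [← D.index_C, hCP, hidx, hgd]
  have hed : D.e.Coprime D.d := by
    have : D.e.Coprime (D.d + D.e) := by
      rw [hde]
      exact ((Nat.Prime.coprime_iff_not_dvd hpp).2 fun h => by
        have := Nat.le_of_dvd hepos h; omega).symm
    simpa using this
  obtain ⟨c, -, hec⟩ := (Nat.dvd_prime_pow hq).1
    (Nat.Coprime.dvd_of_dvd_mul_right hed ⟨_, hCi'⟩)
  have he1 : D.e ≠ 1 := D.he ▸ relIndex_ne_one_of_perfect hperf P hP hx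
  have hc0 : c ≠ 0 := by rintro rfl; exact he1 hec
  have hqe : q ∣ D.e := hec ▸ dvd_pow_self q hc0
  have hq2 : q = 2 := by
    have h2 : (q : ℤ) ∣ D.e := Int.natCast_dvd_natCast.2 hqe
    have h3 : (q : ℤ) ∣ D.Y.card * D.e := Dvd.dvd.mul_left h2 _
    have h5 : (D.Y.card * D.e : ℤ) = D.d + D.e - 1 := by
      have : D.Y.card * D.e + 1 = D.d + D.e := by omega
      have := congrArg (Nat.cast : ℕ → ℤ) this
      push_cast at this; omega
    have h6 : (q : ℤ) ∣ 2 := by
      obtain ⟨r, hr⟩ := (dvd_neg.2 hqd).sub (h3.sub h2)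
      exact ⟨r, by linear_combination hr + h5⟩
    exact (Nat.prime_dvd_prime_iff_eq hq Nat.prime_two).1 (Int.natCast_dvd_natCast.1 h6)
  subst hq2
  haveI : Fact (Nat.Prime 2) := ⟨hq⟩
  obtain ⟨Mq, hMq⟩ := exists_isPModular hq
  have hb' : (Nat.card G).factorization 2 = b := by
    have h2p : ¬ 2 ∣ p * g := by
      intro h
      rcases (Nat.Prime.dvd_mul hq).1 h with h | h
      · exact hpq ((Nat.prime_dvd_prime_iff_eq hq hpp).1 h).symm
      · exact hqg h
    have : Nat.card G = 2 ^ b * (p * g) := by rw [hcard]; ring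
    rw [this, Nat.factorization_mul (by positivity) (by positivity)]
    simp [Nat.factorization_eq_zero_of_not_dvd h2p, Nat.prime_two.factorization_self]
  have hBT := brauer_tuan D P hP hx hM hD hMq (by
    rw [hCP, hc]; exact fun h => hpq ((Nat.prime_dvd_prime_iff_eq hq hpp).1 h).symm)
    (B := principalBlock Mq G) isPBlock_principal
  rw [hb', hδ] at hBT
  set S := D.X.filter (· ∈ principalBlock Mq G) with hS
  have hSX : S ⊆ D.X := Finset.filter_subset _ _
  have hS1 : irrOne G ∈ S := Finset.mem_filter.2 ⟨h1, irrOne_mem_principal hMq⟩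
  set σ := ∑ χ ∈ S, D.ε χ * charDegree (χ : G → ℂ) with hσ
  have hBT' : (2 : ℤ) ^ b ∣ σ + D.d := by
    rcases hBT with h | ⟨-, h⟩
    · exfalso
      have h2 := hsum S 2 hSX hS1 fun χ hχ => hXq χ (hSX hχ)
      have h3 : (2 : ℤ) ∣ σ := (dvd_pow_self 2 hb).trans (by exact_mod_cast h)
      push_cast at h2
      omega
    · obtain ⟨r, hr⟩ := h
      exact ⟨r, by push_cast at hr; linear_combination hr⟩
  have npow : ∀ χ ∈ S, χ ≠ irrOne G → ∀ s, charDegree (χ : G → ℂ) ≠ 2 ^ s := by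
    intro χ hχ hne s hs
    exact not_pow_of_principal hG hMq (Finset.mem_filter.1 hχ).2 hne (k := s)
      (by rw [← hs, cast_charDegree χ.2.isCharacter])
  have hXd : ∀ χ ∈ D.X, charDegree (χ : G → ℂ) ∣ 2 ^ b * D.d := fun χ hχ =>
    hgd ▸ (D.dvd_X hx hχ).trans hCi
  have fin : 2 ^ b ≤ p - 1 → Nat.card G < p ^ 3 := by
    intro h
    rw [hcard]
    have : 2 ^ b * g < p * p := by
      calc 2 ^ b * g ≤ (p - 1) * g := Nat.mul_le_mul_right _ h
        _ < p * p := Nat.mul_lt_mul'' (by omega) (by omega)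
    calc p * (2 ^ b * g) < p * (p * p) := Nat.mul_lt_mul_of_pos_left this hpp.pos
      _ = p ^ 3 := by ring
  apply fin
  by_cases hc1 : c = 1
  · subst hc1
    have hX2 : D.X.card = 2 := by rw [D.cardX, hec]; rfl
    have hall : ∀ χ ∈ S, χ = irrOne G := by
      intro χ hχ
      by_contra hne
      have hXe : D.X = {irrOne G, χ} := by
        symm
        apply Finset.eq_of_subset_of_card_le
        · intro y hy
          rcases Finset.mem_insert.1 hy with rfl | hy
          · exact h1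
          · rw [Finset.mem_singleton.1 hy]; exact hSX hχ
        · rw [hX2, Finset.card_pair (Ne.symm hne)]
      have h2 := D.deg_eq
      rw [hXe, Finset.sum_pair (Ne.symm hne), D.ε_irrOne hx h1,
        charDegree_eq_of_eq (n := 1) (by simp [irrOne_apply]), hδ] at h2
      have h3 : charDegree (χ : G → ℂ) = D.d + 1 := by
        rcases D.sign χ (hSX hχ) with h | h <;> rw [h] at h2 <;> omega
      have h5 := hXd χ (hSX hχ)
      rw [h3] at h5
      obtain ⟨s, -, hs⟩ := (Nat.dvd_prime_pow hq).1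
        (Nat.Coprime.dvd_of_dvd_mul_right (by simp) h5)
      exact npow χ hχ hne s (h3.trans hs)
    have hσ1 : σ = 1 := by
      have := hsum S 0 hSX hS1 fun χ hχ hne => absurd (hall χ hχ) hne
      simp only [Nat.cast_zero, zero_dvd_iff] at this
      omega
    rw [hσ1] at hBT'
    have := Int.le_of_dvd (by positivity) hBT'
    have h6 : 2 ^ b ≤ 1 + D.d := by exact_mod_cast this
    omega
  have hc2 : 2 ≤ c := by omega
  have h4e : 4 ∣ D.e := hec ▸ (pow_dvd_pow 2 hc2 : 2 ^ 2 ∣ 2 ^ c)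
  obtain ⟨χ, hχ, hne, hχ4⟩ : ∃ χ ∈ D.X, χ ≠ irrOne G ∧ ¬ 4 ∣ charDegree (χ : G → ℂ) := by
    by_contra hh
    push Not at hh
    have h2 := hsum _ 4 subset_rfl h1 hh
    rw [← D.deg_eq, hδ] at h2
    have h3 : 4 ∣ D.Y.card * D.e := Dvd.dvd.mul_left h4e _
    push_cast at h2
    omega
  have hp2e : p = 2 * D.e + 1 := by
    obtain ⟨w, hw⟩ := hXq χ hχ hne
    have hw2 : ¬ 2 ∣ w := fun h => hχ4 (hw ▸ Nat.mul_dvd_mul_left 2 h)
    have hwd : w ∣ D.d := Nat.Coprime.dvd_of_dvd_mul_left (Nat.Coprime.pow_right _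
      ((Nat.Prime.coprime_iff_not_dvd hq).2 hw2).symm)
      ((Dvd.intro_left _ hw.symm).trans (hXd χ hχ))
    have h2 := hXge χ hχ hne
    have hwd' : w = D.d := by
      obtain ⟨r, hr⟩ := hwd
      rcases r with _ | _ | r
      · omega
      · omega
      · have : w * (r + 1 + 1) = w * r + 2 * w := by ring
        omega
    have h3 := (D.degX χ hχ).dvd
    have h5 := Nat.le_of_dvd hepos h4e
    rw [hw, hwd'] at h3
    rcases D.sign χ hχ with h | h <;> rw [h] at h3
    · have h6 := h3.add (dvd_refl (p : ℤ))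
      have := Int.eq_zero_of_abs_lt_dvd h6 (by rw [abs_lt]; constructor <;> omega)
      omega
    · have h6 := h3.add (dvd_refl (p : ℤ))
      have := Int.eq_zero_of_abs_lt_dvd h6 (by rw [abs_lt]; constructor <;> omega)
      omega
  have hd' : D.d = 2 ^ c + 1 := by omega
  have hpz : (p : ℤ) = 2 ^ (c + 1) + 1 := by
    rw [hp2e, hec]; push_cast; ring
  have hSd : ∀ χ ∈ S, χ ≠ irrOne G → D.d ∣ charDegree (χ : G → ℂ) := by
    intro χ hχ hne
    have h2 := (D.degX χ (hSX hχ)).dvd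
    rw [hpz] at h2
    rcases deg_dichot (b := b) (D := charDegree (χ : G → ℂ)) hc2 (hd' ▸ hXd χ (hSX hχ)) (by
      rcases D.sign χ (hSX hχ) with h | h <;> rw [h] at h2
      · left; simpa using dvd_neg.2 h2
      · right
        obtain ⟨r, hr⟩ := dvd_neg.2 h2
        exact ⟨r, by linear_combination hr⟩) with ⟨s, hs⟩ | h
    · exact absurd hs (npow χ hχ hne s)
    · rwa [hd']
  have hσd := hsum S D.d hSX hS1 hSd
  have hσ0 : σ + D.d ≠ 0 := by
    intro h
    have h2 : (D.d : ℤ) ∣ 1 := by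
      have := hσd.add (dvd_refl (D.d : ℤ))
      rw [show σ - 1 + D.d = -1 by omega] at this
      exact dvd_neg.1 this
    have := Int.le_of_dvd one_pos h2
    omega
  have hle : (2 : ℤ) ^ b ≤ |σ + D.d| := Int.le_of_dvd (abs_pos.2 hσ0) ((dvd_abs _ _).2 hBT')
  have hσ2 := abs_sum_le D S hSX
  rw [← hσ, hcard, hgd] at hσ2
  obtain ⟨n, hn, -⟩ := exists_index_normalizer P hP
  have hneg : (2 : ℤ) ^ (c + 1) + 1 ∣ 2 ^ b + 1 := by
    rw [hn] at hCi'
    have h2 : (2 : ℤ) ^ b * D.d = D.e * (n * p + 1) := by exact_mod_cast hCi'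
    have h3 : (D.d : ℤ) = p - D.e := by omega
    have h5 : (p : ℤ) ∣ D.e * (2 ^ b + 1) := ⟨2 ^ b - D.e * n, by
      rw [h3] at h2; linear_combination -h2⟩
    rw [← hpz]
    rcases (Nat.prime_iff_prime_int.1 hpp).dvd_or_dvd h5 with h | h
    · have := Int.le_of_dvd (by omega) h; omega
    · exact h
  have hbk : b = c + 1 := by
    apply pow_eq_of_neg_one (by omega) hneg
    have hE : 2 ^ (c + 1) = 2 * D.e := by rw [hec]; ring
    rw [hE]
    have h5 : (4 : ℤ) ≤ D.e := by exact_mod_cast Nat.le_of_dvd hepos h4e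
    have h6 : (D.d : ℤ) = D.e + 1 := by omega
    have h7 : (p : ℤ) = 2 * D.e + 1 := by omega
    push_cast at hσ2
    rw [h6] at hle
    rw [h6, h7] at hσ2
    suffices h : (2 : ℤ) ^ b < (2 * D.e) ^ 3 by exact_mod_cast h
    exact size_bound h5 hle hσ2
  rw [hbk, pow_succ, ← hec]
  omega

end Cfsg.Agent.Small.BTuan
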